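import Mathlib

/-!
# Counting in a strongly regular graph (77, 16, 0, 4): triples with empty common neighbourhood
-/

set_option autoImplicit false

namespace Cfsg.Agent.Steiner.SRG77

open Finset

variable {V : Type*} [Fintype V] [DecidableEq V] {G : SimpleGraph V} [DecidableRel G.Adj]

/-- Neighbours. -/
local notation:max "nb" u:arg => SimpleGraph.neighborFinset G u

theorem mem_nb {u w : V} : w ∈ nb u ↔ G.Adj u w := SimpleGraph.mem_neighborFinset G u w

/-- Three pairwise nonadjacent vertices without a common neighbour. -/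
structure Tri (G : SimpleGraph V) (a b c : V) : Prop where
  ne₁ : a ≠ b
  ne₂ : a ≠ c
  ne₃ : b ≠ c
  nadj₁ : ¬ G.Adj a b
  nadj₂ : ¬ G.Adj a c
  nadj₃ : ¬ G.Adj b c
  none : ∀ x, G.Adj x a → G.Adj x b → ¬ G.Adj x c

omit [Fintype V] [DecidableEq V] [DecidableRel G.Adj] in
theorem Tri.swap {a b c : V} (h : Tri G a b c) : Tri G b a c :=
  ⟨h.ne₁.symm, h.ne₃, h.ne₂, fun e => h.nadj₁ e.symm, h.nadj₃, h.nadj₂,
    fun x p q => h.none x q p⟩

omit [Fintype V] [DecidableEq V] [DecidableRel G.Adj] in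
theorem Tri.swap' {a b c : V} (h : Tri G a b c) : Tri G a c b :=
  ⟨h.ne₂, h.ne₁, h.ne₃.symm, h.nadj₂, h.nadj₁, fun e => h.nadj₃ e.symm,
    fun x p q r => h.none x p r q⟩

variable (hG : G.IsSRGWith 77 16 0 4)
include hG

theorem card_nb (x : V) : (nb x).card = 16 := by
  show (G.neighborFinset x).card = 16
  rw [SimpleGraph.card_neighborFinset_eq_degree, hG.regular x]

theorem common_eq {x y : V} (hxy : x ≠ y) (h : ¬ G.Adj x y) : (nb x ∩ nb y).card = 4 := by
  have h1 := hG.of_not_adj hxy h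
  show (G.neighborFinset x ∩ G.neighborFinset y).card = 4
  rw [← h1, ← Set.toFinset_card]
  congr 1
  ext z
  rw [Set.mem_toFinset]
  simp [SimpleGraph.commonNeighbors]

theorem tri_free {x y z : V} (hxy : G.Adj x y) (hxz : G.Adj x z) : ¬ G.Adj y z := by
  intro hyz
  have h1 := hG.of_adj x y hxy
  rw [Fintype.card_eq_zero_iff] at h1
  exact h1.false ⟨z, hxz, hyz⟩

theorem common_zero {x y : V} (h : G.Adj x y) : (nb x ∩ nb y).card = 0 := by
  rw [card_eq_zero, eq_empty_iff_forall_notMem]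
  intro z hz
  rw [mem_inter, mem_nb, mem_nb] at hz
  exact tri_free hG h hz.1 hz.2

omit hG in
theorem sum_inter (S : Finset V) (W : Finset V) :
    ∑ u ∈ W, (nb u ∩ S).card = ∑ s ∈ S, (nb s ∩ W).card := by
  have e : ∀ (u : V) (X : Finset V), (nb u ∩ X).card = (X.filter fun s => G.Adj u s).card := by
    intro u X; congr 1; ext s; simp [and_comm]
  simp only [e, card_filter]
  rw [sum_comm]
  exact sum_congr rfl fun s _ => sum_congr rfl fun u _ => by simp only [G.adj_comm u s]

/-- The basic identity for the numbers of neighbours in a set. -/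
theorem sum_identity (S : Finset V) :
    ∑ u, (((nb u ∩ S).card : ℤ) - 1) * (((nb u ∩ S).card : ℤ) - 2) +
      4 * ∑ s ∈ S, ((nb s ∩ S).card : ℤ) = 4 * (S.card : ℤ) ^ 2 - 36 * S.card + 154 := by
  have h1 : ∑ u, ((nb u ∩ S).card : ℤ) = 16 * S.card := by
    rw [← Nat.cast_sum, sum_inter S univ]
    simp only [inter_univ, card_nb hG, sum_const, smul_eq_mul]
    push_cast; ring
  have h2 : ∑ u, ((nb u ∩ S).card : ℤ) ^ 2 =
      16 * S.card + ∑ s ∈ S, ∑ t ∈ S.erase s, ((nb s ∩ nb t).card : ℤ) := by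
    have e : ∀ u, ((nb u ∩ S).card : ℤ) ^ 2 =
        ∑ s ∈ S, ∑ t ∈ S, if u ∈ nb s ∩ nb t then (1 : ℤ) else 0 := by
      intro u
      have e1 : ((nb u ∩ S).card : ℤ) = ∑ s ∈ S, if G.Adj s u then (1 : ℤ) else 0 := by
        rw [sum_boole]; congr 2; ext s; simp [and_comm, G.adj_comm]
      rw [sq, e1, sum_mul_sum]
      refine sum_congr rfl fun s _ => sum_congr rfl fun t _ => ?_
      by_cases ha : G.Adj s u <;> by_cases hb : G.Adj t u <;> simp [ha, hb]
    rw [sum_congr rfl fun u _ => e u, sum_comm]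
    have e2 : ∀ s ∈ S, ∑ u, ∑ t ∈ S, (if u ∈ nb s ∩ nb t then (1 : ℤ) else 0) =
        16 + ∑ t ∈ S.erase s, ((nb s ∩ nb t).card : ℤ) := by
      intro s hs
      rw [sum_comm, ← add_sum_erase S _ hs]
      simp only [sum_boole, filter_univ_mem, inter_self, card_nb hG]
      norm_num
    rw [sum_congr rfl e2, sum_add_distrib, sum_const]
    simp [mul_comm]
  have h3 : ∀ s ∈ S, ∑ t ∈ S.erase s, ((nb s ∩ nb t).card : ℤ) =
      4 * ((S.card : ℤ) - 1) - 4 * (nb s ∩ S).card := by
    intro s hs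
    rw [sum_congr rfl (g := fun t => 4 - 4 * (if G.Adj s t then (1 : ℤ) else 0)) fun t ht => ?_]
    · rw [sum_sub_distrib, sum_const, ← mul_sum, sum_boole, nsmul_eq_mul, cast_card_erase_of_mem hs]
      have e : (S.erase s).filter (fun t => G.Adj s t) = nb s ∩ S := by
        ext t
        simp only [mem_filter, mem_erase, mem_inter, mem_nb]
        exact ⟨fun h => ⟨h.2, h.1.2⟩, fun h => ⟨⟨h.1.ne', h.2⟩, h.1⟩⟩
      rw [e]; ring
    · by_cases h : G.Adj s t
      · rw [common_zero hG h, if_pos h]; norm_num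
      · rw [common_eq hG (ne_of_mem_erase ht).symm h, if_neg h]; norm_num
  rw [sum_congr rfl h3, sum_sub_distrib, ← mul_sum, sum_const, nsmul_eq_mul] at h2
  have e : ∀ a : ℤ, (a - 1) * (a - 2) = a ^ 2 - 3 * a + 2 := fun a => by ring
  simp only [e, sum_add_distrib, sum_sub_distrib, ← mul_sum, sum_const, card_univ, hG.card]
  rw [h1, h2]
  norm_num [← mul_sum, ← sum_mul]
  ring

omit hG in
theorem term_nonneg (S : Finset V) (u : V) :
    0 ≤ (((nb u ∩ S).card : ℤ) - 1) * (((nb u ∩ S).card : ℤ) - 2) := by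
  rcases le_or_gt (nb u ∩ S).card 1 with h | h
  · nlinarith [mul_nonneg (show (0:ℤ) ≤ 1 - (nb u ∩ S).card by omega)
      (show (0:ℤ) ≤ 2 - (nb u ∩ S).card by omega)]
  · exact mul_nonneg (by omega) (by omega)

omit hG in
theorem le_card_inter {S : Finset V} {u : V} (l : Finset V) (hl : ∀ x ∈ l, G.Adj u x ∧ x ∈ S)
    {k : ℕ} (hk : l.card = k) : k ≤ (nb u ∩ S).card :=
  hk ▸ card_le_card fun x hx => mem_inter.mpr ⟨mem_nb.mpr (hl x hx).1, (hl x hx).2⟩

omit hG in
theorem card_three {x y z : V} (h₁ : x ≠ y) (h₂ : x ≠ z) (h₃ : y ≠ z) :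
    ({x, y, z} : Finset V).card = 3 := by
  simp [h₁, h₂, h₃]

/-- No `K₃,₃`: three vertices have at most two common neighbours. -/
theorem no_k33 {a b c : V} (hab : a ≠ b) (hac : a ≠ c) (hbc : b ≠ c) :
    (nb a ∩ nb b ∩ nb c).card ≤ 2 := by
  by_contra hlt
  obtain ⟨X, hX, hXc⟩ := exists_subset_card_eq (n := 3) (s := nb a ∩ nb b ∩ nb c) (by omega)
  have hadj : ∀ x ∈ X, G.Adj a x ∧ G.Adj b x ∧ G.Adj c x := fun x hx => by
    simpa [and_assoc] using hX hx
  set A : Finset V := {a, b, c} with hA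
  have hAc : A.card = 3 := card_three hab hac hbc
  have hd : Disjoint A X := by
    rw [disjoint_left]
    intro x hx hx'
    simp only [hA, mem_insert, mem_singleton] at hx
    rcases hx with rfl | rfl | rfl
    · exact G.irrefl (hadj _ hx').1
    · exact G.irrefl (hadj _ hx').2.1
    · exact G.irrefl (hadj _ hx').2.2
  set S := A ∪ X with hS
  have hSc : S.card = 6 := by rw [hS, card_union_of_disjoint hd, hAc, hXc]
  have ha : ∀ u ∈ S, 3 ≤ (nb u ∩ S).card := by
    intro u hu
    rcases mem_union.mp hu with h | h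
    · refine le_card_inter X (fun x hx => ⟨?_, mem_union_right _ hx⟩) hXc
      simp only [hA, mem_insert, mem_singleton] at h
      rcases h with rfl | rfl | rfl
      exacts [(hadj x hx).1, (hadj x hx).2.1, (hadj x hx).2.2]
    · refine le_card_inter A (fun x hx => ⟨?_, mem_union_left _ hx⟩) hAc
      simp only [hA, mem_insert, mem_singleton] at hx
      rcases hx with rfl | rfl | rfl
      exacts [(hadj u h).1.symm, (hadj u h).2.1.symm, (hadj u h).2.2.symm]
  have hid := sum_identity hG S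
  rw [hSc] at hid
  have h1 : ∑ u ∈ S, (2 : ℤ) ≤ ∑ u ∈ S, (((nb u ∩ S).card : ℤ) - 1) *
      (((nb u ∩ S).card : ℤ) - 2) :=
    sum_le_sum fun u hu => by nlinarith [ha u hu]
  have h2 : ∑ u ∈ S, (((nb u ∩ S).card : ℤ) - 1) * (((nb u ∩ S).card : ℤ) - 2) ≤ _ :=
    sum_le_univ_sum_of_nonneg fun u => term_nonneg S u
  have h3 : ∑ u ∈ S, (3 : ℤ) ≤ ∑ u ∈ S, ((nb u ∩ S).card : ℤ) :=
    sum_le_sum fun u hu => by exact_mod_cast ha u hu
  rw [sum_const, hSc] at h1 h3
  norm_num at hid h1 h3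
  linarith

/-- A forbidden configuration on ten vertices. -/
theorem no_config {v p q d m₁ m₂ b f x y : V} (hnd : [v, p, q, d, m₁, m₂, b, f, x, y].Nodup)
    (hv : G.Adj v b ∧ G.Adj v f) (hp : G.Adj p b ∧ G.Adj p f ∧ G.Adj p m₁ ∧ G.Adj p m₂)
    (hq : G.Adj q b ∧ G.Adj q f ∧ G.Adj q m₁ ∧ G.Adj q m₂) (hd : G.Adj d b ∧ G.Adj d f)
    (hx : G.Adj x v ∧ G.Adj x d ∧ G.Adj x m₁) (hy : G.Adj y v ∧ G.Adj y d ∧ G.Adj y m₂) : False := by
  simp only [List.nodup_cons, List.mem_cons, List.not_mem_nil, or_false, not_or, List.nodup_nil,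
    not_false_eq_true, and_true] at hnd
  obtain ⟨⟨v1, v2, v3, v4, v5, v6, v7, v8, v9⟩, ⟨p1, p2, p3, p4, p5, p6, p7, p8⟩,
    ⟨q1, q2, q3, q4, q5, q6, q7⟩, ⟨d1, d2, d3, d4, d5, d6⟩, ⟨n1, n2, n3, n4, n5⟩,
    ⟨o1, o2, o3, o4⟩, ⟨b1, b2, b3⟩, ⟨f1, f2⟩, x1⟩ := hnd
  set S : Finset V := {v, p, q, d, m₁, m₂, b, f} with hS
  have hSc : S.card = 8 := by
    rw [hS, card_insert_of_notMem, card_insert_of_notMem, card_insert_of_notMem,
      card_insert_of_notMem, card_insert_of_notMem, card_insert_of_notMem,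
      card_insert_of_notMem, card_singleton] <;> simp [*]
  have hid := sum_identity hG S
  rw [hSc] at hid
  have four : ∀ {u a₁ a₂ a₃ a₄ : V}, G.Adj u a₁ → G.Adj u a₂ → G.Adj u a₃ → G.Adj u a₄ →
      ({a₁, a₂, a₃, a₄} : Finset V).card = 4 → a₁ ∈ S → a₂ ∈ S → a₃ ∈ S → a₄ ∈ S →
      4 ≤ (nb u ∩ S).card := fun h₁ h₂ h₃ h₄ hc s₁ s₂ s₃ s₄ =>
    le_card_inter _ (by simp [h₁, h₂, h₃, h₄, s₁, s₂, s₃, s₄]) hc
  have two : ∀ {u a₁ a₂ : V}, G.Adj u a₁ → G.Adj u a₂ → a₁ ≠ a₂ → a₁ ∈ S → a₂ ∈ S →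
      2 ≤ (nb u ∩ S).card := fun h₁ h₂ hc s₁ s₂ =>
    le_card_inter _ (by simp [h₁, h₂, s₁, s₂]) (card_pair hc)
  have three : ∀ {u a₁ a₂ a₃ : V}, G.Adj u a₁ → G.Adj u a₂ → G.Adj u a₃ → a₁ ≠ a₂ → a₁ ≠ a₃ →
      a₂ ≠ a₃ → a₁ ∈ S → a₂ ∈ S → a₃ ∈ S → 3 ≤ (nb u ∩ S).card :=
    fun h₁ h₂ h₃ c₁ c₂ c₃ s₁ s₂ s₃ =>
    le_card_inter _ (by simp [h₁, h₂, h₃, s₁, s₂, s₃]) (card_three c₁ c₂ c₃)
  have av := two hv.1 hv.2 b1 (by simp [hS]) (by simp [hS])
  have ad := two hd.1 hd.2 b1 (by simp [hS]) (by simp [hS])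
  have a1 := two hp.2.2.1.symm hq.2.2.1.symm p1 (by simp [hS]) (by simp [hS])
  have a2 := two hp.2.2.2.symm hq.2.2.2.symm p1 (by simp [hS]) (by simp [hS])
  have ap := four hp.1 hp.2.1 hp.2.2.1 hp.2.2.2
    (by simp [b1, n1, Ne.symm n2, Ne.symm o1, Ne.symm n3, Ne.symm o2]) (by simp [hS]) (by simp [hS])
    (by simp [hS]) (by simp [hS])
  have aq := four hq.1 hq.2.1 hq.2.2.1 hq.2.2.2
    (by simp [b1, n1, Ne.symm n2, Ne.symm o1, Ne.symm n3, Ne.symm o2]) (by simp [hS]) (by simp [hS])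
    (by simp [hS]) (by simp [hS])
  have ab := four hv.1.symm hp.1.symm hq.1.symm hd.1.symm
    (by simp [v1, v2, v3, p1, p2, q1]) (by simp [hS]) (by simp [hS]) (by simp [hS]) (by simp [hS])
  have af := four hv.2.symm hp.2.1.symm hq.2.1.symm hd.2.symm
    (by simp [v1, v2, v3, p1, p2, q1]) (by simp [hS]) (by simp [hS]) (by simp [hS]) (by simp [hS])
  have ax := three hx.1 hx.2.1 hx.2.2 v3 v4 d1 (by simp [hS]) (by simp [hS]) (by simp [hS])
  have ay := three hy.1 hy.2.1 hy.2.2 v3 v5 d2 (by simp [hS]) (by simp [hS]) (by simp [hS])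
  have h2 := sum_le_univ_sum_of_nonneg (s := ({v, p, q, d, m₁, m₂, b, f, x, y} : Finset V))
    (f := fun u => (((nb u ∩ S).card : ℤ) - 1) * (((nb u ∩ S).card : ℤ) - 2))
    (fun u => term_nonneg S u)
  rw [sum_insert, sum_insert, sum_insert, sum_insert, sum_insert, sum_insert, sum_insert,
    sum_insert, sum_insert, sum_singleton] at h2
  · have h3 : ∑ s ∈ S, ((nb s ∩ S).card : ℤ) = (nb v ∩ S).card + ((nb p ∩ S).card +
        ((nb q ∩ S).card + ((nb d ∩ S).card + ((nb m₁ ∩ S).card + ((nb m₂ ∩ S).card +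
        ((nb b ∩ S).card + ((nb f ∩ S).card : ℤ))))))) := by
      nth_rewrite 1 [hS]
      rw [sum_insert, sum_insert, sum_insert, sum_insert, sum_insert, sum_insert, sum_insert,
        sum_singleton] <;> simp [*]
    rw [h3] at hid
    norm_num at hid
    nlinarith
  all_goals simp [*]

omit hG in
/-- Vertices off a pair and without neighbours among its common neighbours. -/
def rest (G : SimpleGraph V) [DecidableRel G.Adj] (v m : V) : Finset V :=
  univ.filter fun w => w ≠ v ∧ w ≠ m ∧ ¬ G.Adj v w ∧ ¬ G.Adj m w ∧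
    ∀ x ∈ G.neighborFinset v ∩ G.neighborFinset m, ¬ G.Adj x w

omit hG in
theorem mem_rest {v m : V} (hne : v ≠ m) (hn : ¬ G.Adj v m) {w : V} :
    w ∈ rest G v m ↔ Tri G v m w := by
  simp only [rest, mem_filter, mem_univ, true_and, mem_inter, SimpleGraph.mem_neighborFinset]
  exact ⟨fun ⟨a, b, c, d, e⟩ => ⟨hne, a.symm, b.symm, hn, c, d,
      fun x p q => e x ⟨p.symm, q.symm⟩⟩,
    fun h => ⟨h.ne₂.symm, h.ne₃.symm, h.nadj₂, h.nadj₃, fun x p => h.none x p.1.symm p.2.symm⟩⟩

/-- Outside a pair and its common neighbours: neighbours in these six vertices. -/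
theorem outside_cases {v m : V} (hne : v ≠ m) (hn : ¬ G.Adj v m) {u : V}
    (hu : u ∉ insert v (insert m (nb v ∩ nb m))) :
    ((G.Adj u v ∨ G.Adj u m) ∧ (nb u ∩ insert v (insert m (nb v ∩ nb m))).card = 1) ∨
    (¬ G.Adj u v ∧ ¬ G.Adj u m ∧ (nb u ∩ (nb v ∩ nb m)).card ≤ 2 ∧
      nb u ∩ insert v (insert m (nb v ∩ nb m)) = nb u ∩ (nb v ∩ nb m)) := by
  simp only [mem_insert, mem_inter, mem_nb, not_or] at hu
  by_cases hv : G.Adj u v
  · refine .inl ⟨.inl hv, card_eq_one.mpr ⟨v, ?_⟩⟩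
    ext z
    simp only [mem_inter, mem_insert, mem_nb, mem_singleton]
    refine ⟨?_, fun h => ⟨h ▸ hv, .inl h⟩⟩
    rintro ⟨h1, rfl | rfl | h2⟩
    · rfl
    · exact absurd ⟨hv.symm, h1.symm⟩ hu.2.2
    · exact absurd h2.1 (tri_free hG hv h1)
  · by_cases hm : G.Adj u m
    · refine .inl ⟨.inr hm, card_eq_one.mpr ⟨m, ?_⟩⟩
      ext z
      simp only [mem_inter, mem_insert, mem_nb, mem_singleton]
      refine ⟨?_, fun h => ⟨h ▸ hm, .inr (.inl h)⟩⟩
      rintro ⟨h1, rfl | rfl | h2⟩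
      · exact absurd h1 hv
      · rfl
      · exact absurd h2.2 (tri_free hG hm h1)
    · refine .inr ⟨hv, hm, ?_, ?_⟩
      · rw [inter_comm]; exact no_k33 hG hne (Ne.symm hu.1) (Ne.symm hu.2.1)
      · ext z
        simp only [mem_inter, mem_insert, mem_nb]
        refine ⟨?_, fun h => ⟨h.1, .inr (.inr h.2)⟩⟩
        rintro ⟨h1, rfl | rfl | h2⟩
        exacts [absurd h1 hv, absurd h1 hm, ⟨h1, h2⟩]

/-- The six vertices of a pair: values inside. -/
theorem six_inside {v m : V} (hne : v ≠ m) (hn : ¬ G.Adj v m) :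
    (insert v (insert m (nb v ∩ nb m))).card = 6 ∧
    nb v ∩ insert v (insert m (nb v ∩ nb m)) = nb v ∩ nb m ∧
    nb m ∩ insert v (insert m (nb v ∩ nb m)) = nb v ∩ nb m ∧
    ∀ t ∈ nb v ∩ nb m, nb t ∩ insert v (insert m (nb v ∩ nb m)) = {v, m} := by
  refine ⟨?_, ?_, ?_, ?_⟩
  · rw [card_insert_of_notMem, card_insert_of_notMem, common_eq hG hne hn] <;> simp [hne, hn]
  · ext z
    simp only [mem_inter, mem_insert, mem_nb]
    refine ⟨?_, fun h => ⟨h.1, .inr (.inr h)⟩⟩
    rintro ⟨h1, rfl | rfl | h2⟩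
    exacts [(G.irrefl h1).elim, absurd h1 hn, h2]
  · ext z
    simp only [mem_inter, mem_insert, mem_nb]
    refine ⟨?_, fun h => ⟨h.2, .inr (.inr h)⟩⟩
    rintro ⟨h1, rfl | rfl | h2⟩
    exacts [absurd h1.symm hn, (G.irrefl h1).elim, h2]
  · intro t ht
    rw [mem_inter, mem_nb, mem_nb] at ht
    ext z
    simp only [mem_inter, mem_insert, mem_nb, mem_singleton]
    refine ⟨?_, ?_⟩
    · rintro ⟨h1, h2 | h2 | h2⟩
      exacts [.inl h2, .inr h2, absurd h2.1 (fun h3 => tri_free hG ht.1.symm h1 h3)]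
    · rintro (rfl | rfl)
      exacts [⟨ht.1.symm, .inl rfl⟩, ⟨ht.2.symm, .inr (.inl rfl)⟩]

theorem card_rest {v m : V} (hne : v ≠ m) (hn : ¬ G.Adj v m) : (rest G v m).card = 3 := by
  obtain ⟨h6, hv, hm, ht⟩ := six_inside hG hne hn
  set T := nb v ∩ nb m with hT
  set S := insert v (insert m T) with hS
  have hid := sum_identity hG S
  rw [h6, ← sum_add_sum_compl S] at hid
  have hout : ∀ u ∈ Sᶜ, (((nb u ∩ S).card : ℤ) - 1) * (((nb u ∩ S).card : ℤ) - 2) =
      2 * (if u ∈ rest G v m then 1 else 0) := by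
    intro u hu
    rw [mem_compl] at hu
    rcases outside_cases hG hne hn hu with ⟨h, h1⟩ | ⟨h1, h2, (h3 : (nb u ∩ T).card ≤ 2),
      (h4 : nb u ∩ S = nb u ∩ T)⟩
    · rw [h1, if_neg]
      · norm_num
      · rw [mem_rest hne hn]
        intro hw
        rcases h with h | h
        exacts [hw.nadj₂ h.symm, hw.nadj₃ h.symm]
    · rw [h4]
      rcases Nat.lt_or_ge (nb u ∩ T).card 1 with h5 | h5
      · have h0 : nb u ∩ T = ∅ := card_eq_zero.mp (by omega)
        rw [if_pos, h0]
        · norm_num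
        · rw [mem_rest hne hn]
          simp only [hS, mem_insert, not_or] at hu
          refine ⟨hne, Ne.symm hu.1, Ne.symm hu.2.1, hn, fun e => h1 e.symm, fun e => h2 e.symm,
            fun x p q r => ?_⟩
          exact (eq_empty_iff_forall_notMem.mp h0) x (by simp [hT, p.symm, q.symm, r.symm])
      · rw [if_neg]
        · rcases (show (nb u ∩ T).card = 1 ∨ (nb u ∩ T).card = 2 by omega) with e | e <;> rw [e] <;>
            norm_num
        · rw [mem_rest hne hn]
          intro hw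
          obtain ⟨x, hx⟩ := card_pos.mp (by omega : 0 < (nb u ∩ T).card)
          simp only [hT, mem_inter, mem_nb] at hx
          exact hw.none x hx.2.1.symm hx.2.2.symm hx.1.symm
  rw [sum_congr rfl hout, ← mul_sum, sum_boole] at hid
  have hsub : Sᶜ.filter (· ∈ rest G v m) = rest G v m := by
    ext u
    simp only [mem_filter, mem_compl, and_iff_right_iff_imp]
    intro hu
    have hw := (mem_rest hne hn).mp hu
    simp only [hS, hT, mem_insert, mem_inter, mem_nb, not_or]
    exact ⟨hw.ne₂.symm, hw.ne₃.symm, fun h => hw.nadj₂ h.1⟩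
  have hTc : T.card = 4 := common_eq hG hne hn
  have hin1 : ∑ u ∈ S, (((nb u ∩ S).card : ℤ) - 1) * (((nb u ∩ S).card : ℤ) - 2) = 12 := by
    rw [hS, sum_insert (by simp [hT, hne]), sum_insert (by simp [hT]), hv, hm, hTc,
      sum_congr rfl (fun t h => show _ = (0 : ℤ) by
        rw [ht t h, card_pair hne]; norm_num), sum_const_zero]
    norm_num
  have hin2 : ∑ u ∈ S, ((nb u ∩ S).card : ℤ) = 16 := by
    rw [hS, sum_insert (by simp [hT, hne]), sum_insert (by simp [hT]), hv, hm, hTc,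
      sum_congr rfl (fun t h => show _ = (2 : ℤ) by
        rw [ht t h, card_pair hne]; norm_num), sum_const, hTc]
    norm_num
  rw [hsub, hin1, hin2] at hid
  omega

/-- Two further members of a line: nonadjacent, and no common neighbour with either end. -/
theorem tri_trans {v m w w' : V} (h : Tri G v m w) (h' : Tri G v m w') (hww : w ≠ w') :
    Tri G v w w' := by
  have hne := h.ne₁
  have hn := h.nadj₁
  obtain ⟨h6, hv, hm, ht⟩ := six_inside hG hne hn
  set T := nb v ∩ nb m with hT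
  set P := univ.filter (fun u => ¬ G.Adj v u ∧ ¬ G.Adj m u ∧ u ≠ v ∧ u ≠ m ∧
    (nb u ∩ T).card = 2) with hP
  have hTc : T.card = 4 := common_eq hG hne hn
  have hPc : P.card = 12 := by
    have e : ∀ u, (nb u ∩ T).offDiag.card = ∑ q ∈ T.offDiag, if u ∈ nb q.1 ∩ nb q.2 then 1 else 0 := by
      intro u
      rw [← card_filter]
      congr 1
      ext q
      simp only [mem_offDiag, mem_inter, mem_filter, mem_nb, G.adj_comm u]
      tauto
    have h1 : ∑ u ∈ univ.filter (fun u => u ≠ v ∧ u ≠ m), (nb u ∩ T).offDiag.card = 24 := by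
      simp only [e]
      rw [sum_comm, sum_const_nat (m := 2) (fun q hq => ?_), offDiag_card, hTc]
      simp only [mem_offDiag, hT, mem_inter, mem_nb] at hq
      rw [← card_filter]
      have h4 : (nb q.1 ∩ nb q.2).card = 4 :=
        common_eq hG hq.2.2 (tri_free hG hq.1.1 hq.2.1.1)
      have e2 : (univ.filter (fun u => u ≠ v ∧ u ≠ m)).filter (fun u => u ∈ nb q.1 ∩ nb q.2) =
          ((nb q.1 ∩ nb q.2).erase v).erase m := by
        ext u; simp only [mem_filter, mem_univ, true_and, mem_erase]; tauto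
      rw [e2, card_erase_of_mem, card_erase_of_mem, h4]
      · simp [hq.1.1.symm, hq.2.1.1.symm]
      · simp [hq.1.2.symm, hq.2.1.2.symm, hne.symm]
    have h2 : ∀ u ∈ univ.filter (fun u => u ≠ v ∧ u ≠ m),
        (nb u ∩ T).offDiag.card = if u ∈ P then 2 else 0 := by
      intro u hu
      simp only [mem_filter, mem_univ, true_and] at hu
      rw [offDiag_card]
      by_cases huT : u ∈ insert v (insert m T)
      · have huT' : u ∈ T := by
          simp only [mem_insert] at huT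
          rcases huT with h3 | h3 | h3
          exacts [absurd h3 hu.1, absurd h3 hu.2, h3]
        have h3 := ht u huT'
        have h4 : nb u ∩ T = ∅ := by
          rw [eq_empty_iff_forall_notMem]
          intro z hz
          have : z ∈ nb u ∩ insert v (insert m T) :=
            mem_inter.mpr ⟨(mem_inter.mp hz).1, by simp [(mem_inter.mp hz).2]⟩
          rw [h3, mem_insert, mem_singleton] at this
          rcases this with rfl | rfl <;> simp [hT] at hz
        rw [h4, if_neg (by simp [hP, h4])]; rfl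
      · rcases outside_cases hG hne hn huT with ⟨h3, h4⟩ | ⟨h3, h4, h5, -⟩
        · have h5 : (nb u ∩ T).card ≤ 1 :=
            h4 ▸ card_le_card (inter_subset_inter_left fun x hx =>
              mem_insert_of_mem (mem_insert_of_mem hx))
          rw [if_neg (by simp only [hP, mem_filter]; intro h6; omega)]
          rcases (show (nb u ∩ T).card = 0 ∨ (nb u ∩ T).card = 1 by omega) with e3 | e3 <;> rw [e3]
        · have h6 : u ∈ P ↔ (nb u ∩ T).card = 2 := by
            simp [hP, hu.1, hu.2, G.adj_comm v u, G.adj_comm m u, h3, h4]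
          split_ifs with h7
          · rw [h6.mp h7]
          · rw [h6] at h7
            have h5' : (nb u ∩ T).card ≤ 2 := h5
            rcases (show (nb u ∩ T).card = 0 ∨ (nb u ∩ T).card = 1 by omega) with e3 | e3 <;> rw [e3]
    rw [sum_congr rfl h2, sum_ite, sum_const_zero, sum_const, add_zero, smul_eq_mul] at h1
    have h3 : (univ.filter (fun u => u ≠ v ∧ u ≠ m)).filter (· ∈ P) = P := by
      ext u; simp only [hP, mem_filter, mem_univ, true_and]; tauto
    rw [h3] at h1
    omega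
  -- a member `w`: nonadjacent to the others, eight neighbours in `P`
  have key : ∀ w, Tri G v m w → (P ∩ nb w).card = 8 ∧
      ∀ w', Tri G v m w' → ¬ G.Adj w w' := by
    intro w hw
    set S := insert v (insert m T) with hS
    have hwS : w ∉ S := by
      simp only [hS, hT, mem_insert, mem_inter, mem_nb, not_or]
      exact ⟨hw.ne₂.symm, hw.ne₃.symm, fun e => hw.nadj₂ e.1⟩
    set S' := insert w S with hS'
    have hins : ∀ u, (nb u ∩ S').card = (nb u ∩ S).card + if G.Adj u w then 1 else 0 := by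
      intro u
      split_ifs with h3
      · rw [hS', inter_insert_of_mem (mem_nb.mpr h3), card_insert_of_notMem (by simp [hwS])]
      · rw [hS', inter_insert_of_notMem (fun e => h3 (mem_nb.mp e)), add_zero]
    have hS'c : S'.card = 7 := by rw [hS', card_insert_of_notMem hwS, h6]
    have hid := sum_identity hG S'
    rw [hS'c, ← sum_add_sum_compl S'] at hid
    have hnT : ∀ x ∈ T, ¬ G.Adj x w := fun x hx => by
      simp only [hT, mem_inter, mem_nb] at hx
      exact hw.none x hx.1.symm hx.2.symm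
    have hw0 : nb w ∩ S = ∅ := by
      rw [eq_empty_iff_forall_notMem]
      intro z hz
      simp only [hS, mem_inter, mem_insert, mem_nb] at hz
      rcases hz.2 with rfl | rfl | h3
      exacts [hw.nadj₂ hz.1.symm, hw.nadj₃ hz.1.symm, hnT z h3 hz.1.symm]
    have c0 : (nb w ∩ S').card = 0 := by
      rw [hins, hw0, card_empty, if_neg (G.irrefl), add_zero]
    have cv : (nb v ∩ S').card = 4 := by rw [hins, hv, hTc, if_neg hw.nadj₂, add_zero]
    have cm : (nb m ∩ S').card = 4 := by rw [hins, hm, hTc, if_neg hw.nadj₃, add_zero]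
    have ct : ∀ t ∈ T, (nb t ∩ S').card = 2 := fun t h3 => by
      rw [hins, ht t h3, card_pair hne, if_neg (hnT t h3), add_zero]
    have hin1 : ∑ u ∈ S', (((nb u ∩ S').card : ℤ) - 1) * (((nb u ∩ S').card : ℤ) - 2) = 14 := by
      rw [show S' = insert w (insert v (insert m T)) from rfl, sum_insert hwS,
        sum_insert (by simp [hT, hne]), sum_insert (by simp [hT]), ← hS, ← hS', c0, cv, cm,
        sum_congr rfl (fun t h3 => show _ = (0 : ℤ) by rw [ct t h3]; norm_num), sum_const_zero]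
      norm_num
    have hin2 : ∑ u ∈ S', ((nb u ∩ S').card : ℤ) = 16 := by
      rw [show S' = insert w (insert v (insert m T)) from rfl, sum_insert hwS,
        sum_insert (by simp [hT, hne]), sum_insert (by simp [hT]), ← hS, ← hS', c0, cv, cm,
        sum_congr rfl (fun t h3 => show _ = (2 : ℤ) by rw [ct t h3]; norm_num), sum_const, hTc]
      norm_num
    set O := (rest G v m).erase w with hO
    have hwr : w ∈ rest G v m := (mem_rest hne hn).mpr hw
    have hOc : O.card = 2 := by rw [hO, card_erase_of_mem hwr, card_rest hG hne hn]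
    have hout : ∀ u ∈ S'ᶜ, (((nb u ∩ S').card : ℤ) - 1) * (((nb u ∩ S').card : ℤ) - 2) =
        2 * (if u ∈ (P ∩ nb w) ∪ (O \ nb w) then 1 else 0) := by
      intro u hu
      simp only [hS', mem_compl, mem_insert, not_or] at hu
      have hin : u ∈ rest G v m → nb u ∩ T = ∅ := fun h3 => by
        have hr := (mem_rest hne hn).mp h3
        rw [eq_empty_iff_forall_notMem]
        intro x hx
        simp only [hT, mem_inter, mem_nb] at hx
        exact hr.none x hx.2.1.symm hx.2.2.symm hx.1.symm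
      rw [hins]
      rcases outside_cases hG hne hn hu.2 with ⟨h3, h4⟩ | ⟨h3, h4, (h5 : (nb u ∩ T).card ≤ 2),
        (h6' : nb u ∩ S = nb u ∩ T)⟩
      · rw [h4, if_neg (c := u ∈ _)]
        · split_ifs <;> norm_num
        · simp only [mem_union, mem_inter, mem_sdiff, hO, mem_erase, hP, mem_filter,
            mem_rest hne hn]
          rintro (h5 | h5)
          · rcases h3 with h3 | h3
            exacts [h5.1.2.1 h3.symm, h5.1.2.2.1 h3.symm]
          · rcases h3 with h3 | h3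
            exacts [h5.1.2.nadj₂ h3.symm, h5.1.2.nadj₃ h3.symm]
      · simp only [hS, mem_insert, not_or] at hu
        have hr : u ∈ rest G v m ↔ (nb u ∩ T).card = 0 := by
          refine ⟨fun h7 => by rw [hin h7]; rfl, fun h7 => (mem_rest hne hn).mpr ?_⟩
          refine ⟨hne, Ne.symm hu.2.1, Ne.symm hu.2.2.1, hn, fun e => h3 e.symm,
            fun e => h4 e.symm, fun x p q r => ?_⟩
          exact (eq_empty_iff_forall_notMem.mp (card_eq_zero.mp h7)) x
            (by simp [hT, p.symm, q.symm, r.symm])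
        have hp : u ∈ P ↔ (nb u ∩ T).card = 2 := by
          simp [hP, hu.2.1, hu.2.2.1, G.adj_comm v u, G.adj_comm m u, h3, h4]
        have hcond : u ∈ (P ∩ nb w) ∪ (O \ nb w) ↔
            ((nb u ∩ T).card = 2 ∧ G.Adj u w) ∨ ((nb u ∩ T).card = 0 ∧ ¬ G.Adj u w) := by
          simp [hp, hO, hr, hu.1, G.adj_comm w u]
        rw [h6']
        by_cases hadj : G.Adj u w <;>
          rcases (show (nb u ∩ T).card = 0 ∨ (nb u ∩ T).card = 1 ∨ (nb u ∩ T).card = 2 by omega)
            with e3 | e3 | e3 <;> simp [hcond, hadj, e3]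
    rw [sum_congr rfl hout, ← mul_sum, sum_boole, hin1, hin2] at hid
    have hsub : S'ᶜ.filter (· ∈ (P ∩ nb w) ∪ (O \ nb w)) = (P ∩ nb w) ∪ (O \ nb w) := by
      ext u
      simp only [mem_filter, mem_compl, and_iff_right_iff_imp, hS', hS, mem_insert, not_or]
      intro hu
      simp only [mem_union, mem_inter, mem_sdiff, hO, mem_erase, hP, mem_filter, mem_univ,
        true_and, mem_rest hne hn, mem_nb] at hu
      rcases hu with h3 | h3
      · refine ⟨h3.2.ne', h3.1.2.2.1, h3.1.2.2.2.1, fun h4 => ?_⟩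
        simp only [hT, mem_inter, mem_nb] at h4
        exact h3.1.1 h4.1
      · refine ⟨h3.1.1, h3.1.2.ne₂.symm, h3.1.2.ne₃.symm, fun h4 => ?_⟩
        simp only [hT, mem_inter, mem_nb] at h4
        exact h3.1.2.nadj₂ h4.1
    have hd : Disjoint (P ∩ nb w) (O \ nb w) := by
      rw [disjoint_left]; intro u h3 h4
      exact (mem_sdiff.mp h4).2 (mem_inter.mp h3).2
    rw [hsub, card_union_of_disjoint hd] at hid
    push_cast at hid
    have hvw := common_eq hG hw.ne₂ hw.nadj₂
    have hmw := common_eq hG hw.ne₃ hw.nadj₃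
    have hbound : (nb v ∩ nb w).card + (nb m ∩ nb w).card + (P ∩ nb w).card + (O ∩ nb w).card
        ≤ 16 := by
      rw [← card_union_of_disjoint, ← card_union_of_disjoint, ← card_union_of_disjoint,
        ← card_nb hG w]
      · exact card_le_card (by simp [subset_iff]; tauto)
      all_goals
        simp only [disjoint_left, mem_union, mem_inter, mem_nb, hP, hO, mem_filter, mem_erase,
          mem_rest hne hn, mem_univ, true_and]
      · rintro u ((⟨a, -⟩ | ⟨a, -⟩) | ⟨a, -⟩) ⟨⟨-, b⟩, -⟩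
        · exact b.nadj₂ a
        · exact b.nadj₃ a
        · have : nb u ∩ T = ∅ := by
            rw [eq_empty_iff_forall_notMem]
            intro x hx
            simp only [hT, mem_inter, mem_nb] at hx
            exact b.none x hx.2.1.symm hx.2.2.symm hx.1.symm
          rw [this] at a
          simpa using a.2.2.2.2
      · rintro u (⟨a, -⟩ | ⟨a, -⟩) ⟨b, -⟩
        exacts [b.1 a, b.2.1 a]
      · rintro u ⟨a, c⟩ ⟨b, -⟩
        exact hw.none u a.symm b.symm c.symm
    have hsplit := card_sdiff_add_card_inter O (nb w)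
    refine ⟨by omega, fun w' hw' hadj => ?_⟩
    have hmem : w' ∈ O ∩ nb w :=
      mem_inter.mpr ⟨mem_erase.mpr ⟨hadj.ne', (mem_rest hne hn).mpr hw'⟩, mem_nb.mpr hadj⟩
    have := card_pos.mpr ⟨w', hmem⟩
    omega
  obtain ⟨k1, k1'⟩ := key w h
  obtain ⟨k2, -⟩ := key w' h'
  have hnadj := k1' w' h'
  refine ⟨h.ne₂, h'.ne₂, hww, h.nadj₂, h'.nadj₂, hnadj, fun x p q r => ?_⟩
  have hge : 4 ≤ ((P ∩ nb w) ∩ (P ∩ nb w')).card := by
    have h1 := card_union_add_card_inter (P ∩ nb w) (P ∩ nb w')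
    have h2 : ((P ∩ nb w) ∪ (P ∩ nb w')).card ≤ 12 :=
      hPc ▸ card_le_card (union_subset inter_subset_left inter_subset_left)
    omega
  have heq : (P ∩ nb w) ∩ (P ∩ nb w') = nb w ∩ nb w' :=
    eq_of_subset_of_card_le (by intro u; simp; tauto) (by rw [common_eq hG hww hnadj]; exact hge)
  have hx : x ∈ (P ∩ nb w) ∩ (P ∩ nb w') := by rw [heq]; simp [q.symm, r.symm]
  simp only [hP, mem_inter, mem_filter] at hx
  exact hx.1.1.2.1 p.symm

end Cfsg.Agent.Steiner.SRG77
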