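import Cfsg.Agent.Lib.Steiner.SRG77.Lines

/-!
# The 22 cocliques of size 21
-/

set_option autoImplicit false

namespace Cfsg.Agent.Steiner.SRG77

open Finset

variable {V : Type*} [Fintype V] [DecidableEq V] {G : SimpleGraph V} [DecidableRel G.Adj]

local notation:max "nb" u:arg => SimpleGraph.neighborFinset G u

/-- Independent sets of size 21. -/
def cocliques (G : SimpleGraph V) [DecidableRel G.Adj] : Finset (Finset V) :=
  ((univ : Finset V).powersetCard 21).filter fun C => ∀ x ∈ C, ∀ y ∈ C, ¬ G.Adj x y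

theorem mem_cocliques {C : Finset V} :
    C ∈ cocliques G ↔ C.card = 21 ∧ ∀ x ∈ C, ∀ y ∈ C, ¬ G.Adj x y := by
  simp [cocliques]

variable (hG : G.IsSRGWith 77 16 0 4)
include hG

/-- The Hoffman bound is met: six neighbours from outside. -/
theorem six_nbrs {C : Finset V} (hC : C ∈ cocliques G) {u : V} (hu : u ∉ C) :
    (nb u ∩ C).card = 6 := by
  obtain ⟨hc, hi⟩ := mem_cocliques.mp hC
  have hin : ∀ s ∈ C, (nb s ∩ C).card = 0 := by
    intro s hs
    rw [card_eq_zero, eq_empty_iff_forall_notMem]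
    intro x hx
    simp only [mem_inter, mem_nb] at hx
    exact hi s hs x hx.2 hx.1
  have hid := sum_identity hG C
  have h0 : ∑ s ∈ C, ((nb s ∩ C).card : ℤ) = 0 :=
    sum_eq_zero fun s hs => by rw [hin s hs]; rfl
  rw [hc, h0] at hid
  have h1 : ∑ w, ((nb w ∩ C).card : ℤ) = 336 := by
    rw [← Nat.cast_sum, sum_inter C univ]
    simp only [inter_univ, card_nb hG, sum_const, hc]
    rfl
  have h3 : ∑ w, (((nb w ∩ C).card : ℤ) - 6) ^ 2 = 756 := by
    have e : ∀ a : ℤ, (a - 6) ^ 2 = (a - 1) * (a - 2) - 9 * a + 34 := fun a => by ring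
    simp only [e, sum_add_distrib, sum_sub_distrib, ← mul_sum, sum_const, card_univ, hG.card, h1]
    norm_num at hid ⊢
    linarith
  rw [← sum_add_sum_compl C, sum_congr rfl (s₂ := C) (g := fun _ => (36 : ℤ))
    (fun s hs => by rw [hin s hs]; norm_num), sum_const, hc] at h3
  norm_num at h3
  have := (sum_eq_zero_iff_of_nonneg fun w _ => sq_nonneg _).mp
    (show ∑ w ∈ Cᶜ, (((nb w ∩ C).card : ℤ) - 6) ^ 2 = 0 by linarith) u (mem_compl.mpr hu)
  have h4 : ((nb u ∩ C).card : ℤ) - 6 = 0 := sq_eq_zero_iff.mp this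
  omega

variable {v : V} {C : Finset V}

theorem far_of_coclique (hC : C ∈ cocliques G) (hv : v ∈ C) {z : V} (hz : z ∈ C) (hne : z ≠ v) :
    z ≠ v ∧ ¬ G.Adj v z :=
  ⟨hne, (mem_cocliques.mp hC).2 v hv z hz⟩

/-- Members of `C` on lines skew to a given one. -/
theorem skew_count (hC : C ∈ cocliques G) (hv : v ∈ C) {m : V} (hm : m ≠ v) (ha : ¬ G.Adj v m) :
    ((C.erase v).filter fun z => ∃ u ∈ ln G v m, G.Adj z u).card +
      3 * (C ∩ ln G v m).card = 12 := by
  have h1 : ∑ u ∈ ln G v m, (nb u ∩ C).card = 6 * (ln G v m \ C).card := by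
    rw [← sum_sdiff (inter_subset_left : ln G v m ∩ C ⊆ ln G v m), sdiff_inter_self_left,
      sum_congr rfl (fun u hu => six_nbrs hG hC (mem_sdiff.mp hu).2),
      sum_congr rfl (s₂ := ln G v m ∩ C) (g := fun _ => 0) (fun u hu => ?_),
      sum_const, smul_eq_mul]
    · simp [mul_comm]
    · rw [card_eq_zero, eq_empty_iff_forall_notMem]
      intro x hx
      simp only [mem_inter, mem_nb] at hx hu
      exact (mem_cocliques.mp hC).2 u hu.2 x hx.2 hx.1
  have h2 : ∀ z ∈ C, (nb z ∩ ln G v m).card =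
      if z ∈ (C.erase v).filter (fun z => ∃ u ∈ ln G v m, G.Adj z u) then 2 else 0 := by
    intro z hz
    split_ifs with h
    · obtain ⟨h', u, hu, hzu⟩ := mem_filter.mp h
      exact adj_two hG hm ha ((mem_cocliques.mp hC).2 v hv z hz) hu hzu
    · rw [card_eq_zero, eq_empty_iff_forall_notMem]
      intro u hu
      simp only [mem_inter, mem_nb] at hu
      refine h (mem_filter.mpr ⟨mem_erase.mpr ⟨?_, hz⟩, u, hu.2, hu.1⟩)
      rintro rfl
      exact (far_of_mem hm ha hu.2).2 hu.1
  rw [sum_inter C (ln G v m), sum_congr rfl h2, sum_ite, sum_const_zero, sum_const, add_zero,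
    smul_eq_mul, show C.filter (fun z => z ∈ (C.erase v).filter fun z => ∃ u ∈ ln G v m, G.Adj z u) =
      (C.erase v).filter (fun z => ∃ u ∈ ln G v m, G.Adj z u) by
      ext z; simp only [mem_filter, mem_erase]; tauto] at h1
  have h3 := card_sdiff_add_card_inter (ln G v m) C
  rw [card_ln hG hm ha, inter_comm] at h3
  omega

/-- On a skew line there is little room. -/
theorem skew_le (hC : C ∈ cocliques G) {m p : V} (hm : m ≠ v) (ha : ¬ G.Adj v m) (hpv : p ≠ v)
    (hpa : ¬ G.Adj v p) (hp : p ∈ C) (hsk : ∃ u ∈ ln G v m, G.Adj p u) :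
    (C ∩ ln G v m).card ≤ 2 ∧
      ((C ∩ ln G v m).card = 2 → nb p ∩ ln G v m = ln G v m \ (C ∩ ln G v m)) := by
  obtain ⟨u, hu, hpu⟩ := hsk
  have h2 := adj_two hG hm ha hpa hu hpu
  have hsub : nb p ∩ ln G v m ⊆ ln G v m \ (C ∩ ln G v m) := by
    intro w hw
    simp only [mem_inter, mem_nb, mem_sdiff] at hw ⊢
    exact ⟨hw.2, fun h => (mem_cocliques.mp hC).2 p hp w h.1 hw.1⟩
  have hs := card_le_card hsub
  rw [h2, card_sdiff_of_subset inter_subset_right, card_ln hG hm ha] at hs
  refine ⟨by omega, fun h => eq_of_subset_of_card_le hsub ?_⟩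
  rw [h2, card_sdiff_of_subset inter_subset_right, card_ln hG hm ha, h]

theorem ne_two (hC : C ∈ cocliques G) (hv : v ∈ C) {m : V} (hm : m ≠ v) (ha : ¬ G.Adj v m) :
    (C ∩ ln G v m).card ≠ 2 := by
  intro h2
  have hc := skew_count hG hC hv hm ha
  obtain ⟨a, b, hab, hU⟩ := card_eq_two.mp (show (ln G v m \ (C ∩ ln G v m)).card = 2 by
    rw [card_sdiff_of_subset inter_subset_right, card_ln hG hm ha, h2])
  have hma := hU.ge (mem_insert_self a {b})
  have hmb := hU.ge (mem_insert_of_mem (mem_singleton_self b))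
  have hsub : (C.erase v).filter (fun z => ∃ u ∈ ln G v m, G.Adj z u) ⊆ nb a ∩ nb b := by
    intro z hz
    obtain ⟨hz', hsk⟩ := mem_filter.mp hz
    obtain ⟨zv, zC⟩ := mem_erase.mp hz'
    have e := (skew_le hG hC hm ha zv ((mem_cocliques.mp hC).2 v hv z zC) zC hsk).2 h2
    rw [hU] at e
    have m1 := e.ge (mem_insert_self a {b})
    have m2 := e.ge (mem_insert_of_mem (mem_singleton_self b))
    simp only [mem_inter, mem_nb] at m1 m2 ⊢
    exact ⟨m1.1.symm, m2.1.symm⟩
  have := card_le_card hsub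
  rw [common_eq hG hab (nadj_ln hG hm ha (mem_sdiff.mp hma).1 (mem_sdiff.mp hmb).1)] at this
  omega

/-- `C` is a union of whole lines. -/
theorem whole_lines (hC : C ∈ cocliques G) (hv : v ∈ C) {m : V} (hmC : m ∈ C) (hm : m ≠ v) :
    ln G v m ⊆ C := by
  have ha : ¬ G.Adj v m := (mem_cocliques.mp hC).2 v hv m hmC
  have hle : (C ∩ ln G v m).card ≤ 4 := card_ln hG hm ha ▸ card_le_card inter_subset_right
  have hpos : 0 < (C ∩ ln G v m).card := card_pos.mpr ⟨m, mem_inter.mpr ⟨hmC, self_mem⟩⟩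
  have hcount := skew_count hG hC hv hm ha
  have h2 := ne_two hG hC hv hm ha
  rcases (show (C ∩ ln G v m).card = 1 ∨ (C ∩ ln G v m).card = 3 ∨ (C ∩ ln G v m).card = 4 by omega)
    with h | h | h
  · exfalso
    set D := (C.erase v).filter (fun z => ∃ u ∈ ln G v m, G.Adj z u) with hD
    have hfar : ∀ z ∈ D, z ≠ v ∧ ¬ G.Adj v z ∧ z ∈ C := fun z hz => by
      obtain ⟨hz', -⟩ := mem_filter.mp hz
      obtain ⟨zv, zC⟩ := mem_erase.mp hz'
      exact ⟨zv, (mem_cocliques.mp hC).2 v hv z zC, zC⟩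
    -- the lines of the nine are distinct
    have hinj : Set.InjOn (ln G v) (D : Set V) := by
      intro z hz z' hz' e
      obtain ⟨zv, za, zC⟩ := hfar z hz
      obtain ⟨zv', za', zC'⟩ := hfar z' hz'
      have hsk : ∃ u ∈ ln G v z, G.Adj m u := by
        obtain ⟨-, u, hu, hzu⟩ := mem_filter.mp hz
        obtain ⟨uv, ua⟩ := far_of_mem hm ha hu
        exact skew_congr hG zv za uv ua (by rw [ln_eq hG hm ha hu]; exact self_mem)
          ⟨z, self_mem, hzu.symm⟩
      have hle2 := (skew_le hG hC zv za hm ha hmC hsk).1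
      have hne2 := ne_two hG hC hv zv za
      have h1 : (C ∩ ln G v z).card ≤ 1 := by omega
      exact card_le_one.mp h1 z (mem_inter.mpr ⟨zC, self_mem⟩) z'
        (mem_inter.mpr ⟨zC', e ▸ self_mem⟩)
    classical
    have hsub : D.image (ln G v) ⊆
        ((lineGraph G v).neighborFinset ⟨ln G v m, mem_lines.mpr ⟨m, ⟨hm, ha⟩, rfl⟩⟩).map
          (Function.Embedding.subtype _) := by
      intro l hl
      obtain ⟨z, hz, rfl⟩ := mem_image.mp hl
      obtain ⟨zv, za, -⟩ := hfar z hz
      refine mem_map.mpr ⟨⟨_, mem_lines.mpr ⟨z, ⟨zv, za⟩, rfl⟩⟩, ?_, rfl⟩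
      rw [SimpleGraph.mem_neighborFinset, (lineGraph G v).adj_comm, line_adj hG zv za hm ha]
      exact (mem_filter.mp hz).2
    have := card_le_card hsub
    rw [card_image_of_injOn hinj, card_map, (isQuad hG).deg] at this
    omega
  · exfalso
    obtain ⟨z, hz⟩ := card_pos.mp (show 0 < ((C.erase v).filter fun z =>
      ∃ u ∈ ln G v m, G.Adj z u).card by omega)
    obtain ⟨hz', hsk⟩ := mem_filter.mp hz
    obtain ⟨zv, zC⟩ := mem_erase.mp hz'
    have := (skew_le hG hC hm ha zv ((mem_cocliques.mp hC).2 v hv z zC) zC hsk).1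
    omega
  · have e : C ∩ ln G v m = ln G v m :=
      eq_of_subset_of_card_le inter_subset_right (by rw [h, card_ln hG hm ha])
    exact e ▸ inter_subset_left

omit hG in
/-- The coclique of a set of lines. -/
def join (v : V) (O : Finset {l : Finset V // l ∈ lines G v}) : Finset V :=
  insert v (O.biUnion fun l => l.1)

omit hG in
/-- The lines inside a set. -/
def linesIn (v : V) (C : Finset V) : Finset {l : Finset V // l ∈ lines G v} :=
  univ.filter fun l => l.1 ⊆ C

theorem line_prop (l : {l : Finset V // l ∈ lines G v}) :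
    ∃ m, (m ≠ v ∧ ¬ G.Adj v m) ∧ ln G v m = l.1 := mem_lines.mp l.2

theorem mem_line {l : {l : Finset V // l ∈ lines G v}} {z : V} (hz : z ∈ l.1) :
    (z ≠ v ∧ ¬ G.Adj v z) ∧ ln G v z = l.1 := by
  obtain ⟨m, ⟨hm, ha⟩, e⟩ := line_prop hG l
  rw [← e] at hz
  exact ⟨far_of_mem hm ha hz, (ln_eq hG hm ha hz).trans e⟩

theorem card_biUnion_lines (O : Finset {l : Finset V // l ∈ lines G v}) :
    (O.biUnion fun l => l.1).card = 4 * O.card := by
  rw [card_biUnion, sum_const_nat (m := 4), mul_comm]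
  · intro l _
    obtain ⟨m, ⟨hm, ha⟩, e⟩ := line_prop hG l
    rw [← e, card_ln hG hm ha]
  · intro l _ l' _ hne
    refine disjoint_left.mpr fun z hz hz' => hne (Subtype.ext ?_)
    rw [← (mem_line hG hz).2, ← (mem_line hG hz').2]

variable [DecidableRel (lineGraph G v).Adj]

theorem card_thru : ((cocliques G).filter fun C => v ∈ C).card = 6 ∧
    ∀ m, m ≠ v → ¬ G.Adj v m → ((cocliques G).filter fun C => v ∈ C ∧ m ∈ C).card = 2 := by
  have hQ := isQuad (v := v) hG
  have hin : ∀ C ∈ cocliques G, v ∈ C → (linesIn (G := G) v C).biUnion (fun l => l.1) = C.erase v := by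
    intro C hC hv
    ext z
    simp only [linesIn, mem_biUnion, mem_filter, mem_univ, true_and, mem_erase]
    constructor
    · rintro ⟨l, hl, hz⟩
      exact ⟨(mem_line hG hz).1.1, hl hz⟩
    · rintro ⟨zv, zC⟩
      exact ⟨⟨ln G v z, mem_lines.mpr ⟨z, far_of_coclique hG hC hv zC zv, rfl⟩⟩,
        whole_lines hG hC hv zC zv, self_mem⟩
  have fwd : ∀ C ∈ cocliques G, v ∈ C → linesIn (G := G) v C ∈ ovoids (lineGraph G v) := by
    intro C hC hv
    have hc := card_biUnion_lines hG (linesIn (G := G) v C)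
    rw [hin C hC hv, card_erase_of_mem hv, (mem_cocliques.mp hC).1] at hc
    simp only [ovoids, mem_filter, mem_powersetCard]
    refine ⟨⟨subset_univ _, by omega⟩, fun l hl l' hl' h => ?_⟩
    simp only [linesIn, mem_filter, mem_univ, true_and] at hl hl'
    simp only [lineGraph, SimpleGraph.fromRel_adj] at h
    rcases h.2 with ⟨a, ha, b, hb, hab⟩ | ⟨a, ha, b, hb, hab⟩
    exacts [(mem_cocliques.mp hC).2 a (hl ha) b (hl' hb) hab,
      (mem_cocliques.mp hC).2 a (hl' ha) b (hl hb) hab]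
  have back : ∀ O ∈ ovoids (lineGraph G v), join (G := G) v O ∈ cocliques G := by
    intro O hO
    simp only [ovoids, mem_filter, mem_powersetCard] at hO
    have hvn : v ∉ O.biUnion (fun l => l.1) := fun h => by
      obtain ⟨l, -, hz⟩ := mem_biUnion.mp h
      exact (mem_line hG hz).1.1 rfl
    refine mem_cocliques.mpr ⟨?_, ?_⟩
    · rw [join, card_insert_of_notMem hvn, card_biUnion_lines hG, hO.1.2]
    · intro a ha b hb hab
      simp only [join, mem_insert, mem_biUnion] at ha hb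
      rcases ha with rfl | ⟨l, hl, ha⟩ <;> rcases hb with e | ⟨l', hl', hb⟩
      · exact G.irrefl (e ▸ hab)
      · exact (mem_line hG hb).1.2 hab
      · exact (mem_line hG ha).1.2 (e ▸ hab).symm
      · rcases eq_or_ne l l' with rfl | hne
        · obtain ⟨m, ⟨hm, hma⟩, e⟩ := line_prop hG l
          rw [← e] at ha hb
          exact nadj_ln hG hm hma ha hb hab
        · exact hO.2 l hl l' hl' (by
            simp only [lineGraph, SimpleGraph.fromRel_adj]
            exact ⟨hne, .inl ⟨a, ha, b, hb, hab⟩⟩)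
  have li : ∀ O ∈ ovoids (lineGraph G v), linesIn (G := G) v (join (G := G) v O) = O := by
    intro O _
    ext l
    rw [linesIn, mem_filter, join]
    simp only [mem_univ, true_and]
    constructor
    · intro h
      obtain ⟨m, ⟨hm, -⟩, e⟩ := line_prop hG l
      have hmem := h (e ▸ self_mem : m ∈ l.1)
      rcases mem_insert.mp hmem with h' | h'
      · exact absurd h' hm
      · obtain ⟨l', hl', hml'⟩ := mem_biUnion.mp h'
        have : l' = l := Subtype.ext ((mem_line hG hml').2.symm.trans e)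
        exact this ▸ hl'
    · exact fun h z hz => mem_insert_of_mem (mem_biUnion.mpr ⟨l, h, hz⟩)
  have ri : ∀ C ∈ cocliques G, v ∈ C → join (G := G) v (linesIn (G := G) v C) = C :=
    fun C hC hv => by rw [join, hin C hC hv, insert_erase hv]
  refine ⟨?_, fun m hm ha => ?_⟩
  · rw [← ovoids_card hQ]
    exact card_bij' (fun C _ => linesIn (G := G) v C) (fun O _ => join (G := G) v O)
      (fun C hC => fwd C (mem_filter.mp hC).1 (mem_filter.mp hC).2)
      (fun O hO => mem_filter.mpr ⟨back O hO, mem_insert_self _ _⟩)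
      (fun C hC => ri C (mem_filter.mp hC).1 (mem_filter.mp hC).2)
      (fun O hO => li O hO)
  · rw [← ovoids_thru hQ ⟨ln G v m, mem_lines.mpr ⟨m, ⟨hm, ha⟩, rfl⟩⟩]
    refine card_bij' (fun C _ => linesIn (G := G) v C) (fun O _ => join (G := G) v O) ?_ ?_ ?_ ?_
    · intro C hC
      obtain ⟨hC, hv, hmC⟩ := mem_filter.mp hC
      exact mem_filter.mpr ⟨fwd C hC hv,
        mem_filter.mpr ⟨mem_univ _, whole_lines hG hC hv hmC hm⟩⟩
    · intro O hO
      obtain ⟨hO, hl⟩ := mem_filter.mp hO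
      exact mem_filter.mpr ⟨back O hO, mem_insert_self _ _,
        mem_insert_of_mem (mem_biUnion.mpr ⟨_, hl, self_mem⟩)⟩
    · exact fun C hC => ri C (mem_filter.mp hC).1 (mem_filter.mp hC).2.1
    · exact fun O hO => li O (mem_filter.mp hO).1

end Cfsg.Agent.Steiner.SRG77
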