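import Mathlib

/-!
# Ovoids of a 15-point, 3-regular-line generalised quadrangle, seen as a graph
-/

set_option autoImplicit false

namespace Cfsg.Agent.Steiner.SRG77

open Finset

variable {α : Type*} [Fintype α] [DecidableEq α] {R : SimpleGraph α} [DecidableRel R.Adj]

local notation:max "nh" u:arg => SimpleGraph.neighborFinset R u

theorem mem_nh {u w : α} : w ∈ nh u ↔ R.Adj u w := SimpleGraph.mem_neighborFinset R u w

/-- Degree 6 on 15 points and a unique triangle on each edge. -/
structure IsQuad (R : SimpleGraph α) [DecidableRel R.Adj] : Prop where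
  card : Fintype.card α = 15
  deg : ∀ a, (R.neighborFinset a).card = 6
  third : ∀ a b, R.Adj a b → (R.neighborFinset a ∩ R.neighborFinset b).card = 1

/-- Independent 5-sets. -/
def ovoids (R : SimpleGraph α) [DecidableRel R.Adj] : Finset (Finset α) :=
  ((univ : Finset α).powersetCard 5).filter fun O => ∀ x ∈ O, ∀ y ∈ O, ¬ R.Adj x y

variable (hR : IsQuad R)
include hR

theorem third_unique {a b x y : α} (hab : R.Adj a b) (hxa : R.Adj a x) (hxb : R.Adj b x)
    (hya : R.Adj a y) (hyb : R.Adj b y) : x = y :=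
  card_le_one.mp (hR.third a b hab).le x (by simp [hxa, hxb]) y (by simp [hya, hyb])

/-- A point off a triangle is adjacent to exactly one of its corners. -/
theorem antiflag {a b c : α} (hab : R.Adj a b) (hac : R.Adj a c) (hbc : R.Adj b c) {x : α}
    (ha : x ≠ a) (hb : x ≠ b) (hc : x ≠ c) :
    (R.Adj a x ∨ R.Adj b x ∨ R.Adj c x) ∧ ¬ (R.Adj a x ∧ R.Adj b x) := by
  refine ⟨?_, fun h => hc (third_unique hR hab h.1 h.2 hac hbc)⟩
  set A := ((nh a).erase b).erase c with hA
  set B := ((nh b).erase a).erase c with hB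
  set C := ((nh c).erase a).erase b with hC
  have cA : A.card = 4 := by
    rw [hA, card_erase_of_mem, card_erase_of_mem, hR.deg] <;> simp [hab, hac, hbc.ne']
  have cB : B.card = 4 := by
    rw [hB, card_erase_of_mem, card_erase_of_mem, hR.deg] <;> simp [hab.symm, hbc, hac.ne']
  have cC : C.card = 4 := by
    rw [hC, card_erase_of_mem, card_erase_of_mem, hR.deg] <;> simp [hac.symm, hbc.symm, hab.ne']
  have dAB : Disjoint A B := by
    rw [disjoint_left]; intro z h1 h2
    simp only [hA, hB, mem_erase, mem_nh] at h1 h2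
    exact h1.1 (third_unique hR hab h1.2.2 h2.2.2 hac hbc)
  have dAC : Disjoint A C := by
    rw [disjoint_left]; intro z h1 h2
    simp only [hA, hC, mem_erase, mem_nh] at h1 h2
    exact h1.2.1 (third_unique hR hac h1.2.2 h2.2.2 hab hbc.symm)
  have dBC : Disjoint B C := by
    rw [disjoint_left]; intro z h1 h2
    simp only [hB, hC, mem_erase, mem_nh] at h1 h2
    exact h1.2.1 (third_unique hR hbc h1.2.2 h2.2.2 hab.symm hac.symm)
  have hsub : A ∪ B ∪ C = ((univ.erase a).erase b).erase c := by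
    refine eq_of_subset_of_card_le ?_ ?_
    · intro z
      simp only [hA, hB, hC, mem_union, mem_erase, mem_nh, mem_univ, and_true]
      rintro ((⟨h1, h2, h3⟩ | ⟨h1, h2, h3⟩) | ⟨h1, h2, h3⟩)
      exacts [⟨h1, h2, h3.ne'⟩, ⟨h1, h3.ne', h2⟩, ⟨h3.ne', h1, h2⟩]
    · rw [card_union_of_disjoint (disjoint_union_left.mpr ⟨dAC, dBC⟩),
        card_union_of_disjoint dAB, cA, cB, cC, card_erase_of_mem, card_erase_of_mem,
        card_erase_of_mem, card_univ, hR.card] <;> simp [hab.ne', hac.ne', hbc.ne']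
  have hx : x ∈ A ∪ B ∪ C := by rw [hsub]; simp [ha, hb, hc]
  simp only [hA, hB, hC, mem_union, mem_erase, mem_nh] at hx
  tauto

/-- The third corner over an edge. -/
theorem exists_third {a b : α} (hab : R.Adj a b) : ∃ c, R.Adj a c ∧ R.Adj b c := by
  obtain ⟨c, hc⟩ := card_eq_one.mp (hR.third a b hab)
  have := hc.ge (mem_singleton_self c)
  simp only [mem_inter, mem_nh] at this
  exact ⟨c, this⟩

/-- Nonadjacent points have three common neighbours. -/
theorem mu_three {a x : α} (hne : x ≠ a) (hn : ¬ R.Adj a x) : (nh a ∩ nh x).card = 3 := by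
  choose σ hσ using fun (y : α) (hy : y ∈ nh a) => exists_third hR (mem_nh.mp hy)
  have h6 := hR.deg a
  have hsplit := card_sdiff_add_card_inter (nh a) (nh x)
  have hbij : (nh a ∩ nh x).card = (nh a \ nh x).card := by
    refine card_bij (fun y hy => σ y (mem_inter.mp hy).1) ?_ ?_ ?_
    · intro y hy
      obtain ⟨h1, h2⟩ := mem_inter.mp hy
      rw [mem_nh] at h1 h2
      refine mem_sdiff.mpr ⟨mem_nh.mpr (hσ y _).1, fun h' => ?_⟩
      have h := mem_nh.mp h'
      obtain ⟨hz1, hz2⟩ := hσ y (mem_inter.mp hy).1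
      exact (antiflag hR hz2 h1.symm hz1.symm h2.ne (fun e => hn (e ▸ hz1)) hne).2
        ⟨h2.symm, h.symm⟩
    · intro y₁ hy₁ y₂ hy₂ e
      obtain ⟨p1, p2⟩ := hσ y₁ (mem_inter.mp hy₁).1
      obtain ⟨q1, q2⟩ := hσ y₂ (mem_inter.mp hy₂).1
      exact third_unique hR p1 (mem_nh.mp (mem_inter.mp hy₁).1) p2.symm
        (mem_nh.mp (mem_inter.mp hy₂).1) (e ▸ q2.symm)
    · intro z hz
      obtain ⟨h1, h2⟩ := mem_sdiff.mp hz
      rw [mem_nh] at h1 h2
      obtain ⟨y, y1, y2⟩ := exists_third hR h1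
      have hxy : R.Adj y x := by
        have := (antiflag hR h1 y1 y2 hne (x := x) (fun e => hn (e ▸ h1))
          (fun e => hn (e ▸ y1))).1
        rcases this with h | h | h
        exacts [absurd h hn, absurd h.symm h2, h]
      have hy : y ∈ nh a ∩ nh x := by simp [y1, hxy.symm]
      refine ⟨y, hy, ?_⟩
      obtain ⟨p1, p2⟩ := hσ y (mem_inter.mp hy).1
      exact third_unique hR y1 p1 p2 h1 y2.symm
  omega

variable (a : α)

omit hR in
/-- Points neither equal nor adjacent to `a`. -/
def outs (R : SimpleGraph α) [DecidableRel R.Adj] (a : α) : Finset α :=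
  univ.filter fun u => u ≠ a ∧ ¬ R.Adj a u

omit hR in
theorem mem_outs {u : α} : u ∈ outs R a ↔ u ≠ a ∧ ¬ R.Adj a u := by simp [outs]

theorem outs_card : (outs R a).card = 8 := by
  have e : outs R a = (insert a (nh a))ᶜ := by ext u; simp [outs]
  rw [e, card_compl, hR.card, card_insert_of_notMem (by simp), hR.deg]

/-- The trace of an outside point on the neighbours of `a`. -/
local notation:max "tr" u:arg => SimpleGraph.neighborFinset R a ∩ SimpleGraph.neighborFinset R u

theorem deg_outs {x : α} (hx : x ∈ outs R a) : (nh x ∩ outs R a).card = 3 := by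
  rw [mem_outs] at hx
  have h := card_sdiff_add_card_inter (nh x) (nh a)
  rw [inter_comm (nh x) (nh a), mu_three hR hx.1 hx.2, hR.deg] at h
  have e : nh x ∩ outs R a = nh x \ nh a := by
    ext z
    simp only [mem_inter, mem_sdiff, mem_outs, mem_nh]
    exact ⟨fun h => ⟨h.1, h.2.2⟩, fun h => ⟨h.1, fun e => hx.2 (e ▸ h.1).symm, h.2⟩⟩
  rw [e]; omega

/-- Adjacent outside points share exactly one trace point. -/
theorem edge_trace {x y : α} (hx : x ∈ outs R a) (hy : y ∈ outs R a) (h : R.Adj x y) :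
    ∃ p, p ∈ tr x ∧ p ∈ tr y ∧ (∀ q, q ∈ tr x → q ∈ tr y → q = p) ∧
      ∀ z, R.Adj x z → R.Adj y z → z = p := by
  rw [mem_outs] at hx hy
  obtain ⟨p, p1, p2⟩ := exists_third hR h
  have hap : R.Adj a p := by
    by_cases e : a = p
    · exact absurd (e ▸ p1).symm hx.2
    rcases (antiflag hR h p1 p2 hx.1.symm hy.1.symm e).1 with h' | h' | h'
    exacts [absurd h'.symm hx.2, absurd h'.symm hy.2, h'.symm]
  refine ⟨p, by simp [hap, p1], by simp [hap, p2], fun q q1 q2 => ?_, fun z z1 z2 =>
    third_unique hR h z1 z2 p1 p2⟩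
  simp only [mem_inter, mem_nh] at q1 q2
  exact third_unique hR h q1.2 q2.2 p1 p2

/-- Two neighbours through the same trace point coincide. -/
theorem partner_unique {x y y' p : α} (hxy : R.Adj x y) (hxy' : R.Adj x y') (hxp : R.Adj x p)
    (hyp : R.Adj y p) (hyp' : R.Adj y' p) : y = y' :=
  third_unique hR hxp hxy hyp.symm hxy' hyp'.symm

theorem exists_partner {x p : α} (hx : x ∈ outs R a) (hp : p ∈ tr x) :
    ∃ y ∈ outs R a, R.Adj x y ∧ p ∈ tr y := by
  simp only [mem_inter, mem_nh] at hp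
  obtain ⟨y, y1, y2⟩ := exists_third hR hp.2
  rw [mem_outs] at hx
  refine ⟨y, (mem_outs a).mpr ⟨fun e => hx.2 (e ▸ y1).symm, fun h => ?_⟩, y1,
    by simp [hp.1, y2.symm]⟩
  exact hx.1 (third_unique hR y2 hp.2.symm y1.symm hp.1.symm h.symm)

omit hR in
theorem mem_tr {x q : α} : q ∈ tr x ↔ R.Adj a q ∧ R.Adj x q := by simp

/-- Traces of neighbours are determined by the common point. -/
theorem trace_eq {x y x' y' p : α} (hx : x ∈ outs R a) (hy : y ∈ outs R a) (hx' : x' ∈ outs R a)
    (hy' : y' ∈ outs R a) (h : R.Adj x y) (h' : R.Adj x' y') (hT : tr x = tr x')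
    (hp : p ∈ tr x) (hpy : p ∈ tr y) (hpy' : p ∈ tr y') : tr y = tr y' := by
  obtain ⟨p₁, -, -, u1, -⟩ := edge_trace hR a hx hy h
  obtain ⟨p₂, -, -, u2, -⟩ := edge_trace hR a hx' hy' h'
  rw [mem_outs] at hx hy hx' hy'
  ext q
  by_cases hqa : R.Adj a q
  swap
  · simp [hqa]
  obtain ⟨q', q1, q2⟩ := exists_third hR hqa
  have alt : ∀ {u : α}, u ≠ a ∧ ¬ R.Adj a u → (q ∈ tr u ↔ q' ∉ tr u) := by
    intro u hu
    have h1 := antiflag hR hqa q1 q2 hu.1 (x := u) (fun e => hu.2 (e ▸ hqa))
      (fun e => hu.2 (e ▸ q1))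
    have h2 := antiflag hR q2 hqa.symm q1.symm (x := u) (fun e => hu.2 (e ▸ hqa))
      (fun e => hu.2 (e ▸ q1)) hu.1
    rw [mem_tr, mem_tr]
    refine ⟨fun h hh => h2.2 ⟨h.2.symm, hh.2.symm⟩, fun h => ⟨hqa, ?_⟩⟩
    rcases h1.1 with e | e | e
    exacts [absurd e hu.2, e.symm, absurd ⟨q1, e.symm⟩ h]
  have hp' : p ∈ tr x' := hT ▸ hp
  by_cases hqx : q ∈ tr x
  · by_cases hqp : q = p
    · subst hqp; exact ⟨fun _ => hpy', fun _ => hpy⟩
    · exact ⟨fun hq => absurd ((u1 q hqx hq).trans (u1 p hp hpy).symm) hqp,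
        fun hq => absurd ((u2 q (hT ▸ hqx) hq).trans (u2 p hp' hpy').symm) hqp⟩
  · have hq'x : q' ∈ tr x := by
      by_contra h1
      exact hqx ((alt hx).mpr h1)
    rw [alt hy, alt hy', not_iff_not]
    by_cases hqp : q' = p
    · subst hqp; exact ⟨fun _ => hpy', fun _ => hpy⟩
    · exact ⟨fun hq => absurd ((u1 q' hq'x hq).trans (u1 p hp hpy).symm) hqp,
        fun hq => absurd ((u2 q' (hT ▸ hq'x) hq).trans (u2 p hp' hpy').symm) hqp⟩

omit hR in
/-- The other outside points with the same trace. -/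
def twins (R : SimpleGraph α) [DecidableRel R.Adj] (a x : α) : Finset α :=
  (outs R a).filter fun u => u ≠ x ∧
    R.neighborFinset a ∩ R.neighborFinset u = R.neighborFinset a ∩ R.neighborFinset x

theorem twins_card {x : α} (hx : x ∈ outs R a) : (twins R a x).card = 1 := by
  have hxo := (mem_outs a).mp hx
  have htr : (tr x).card = 3 := mu_three hR hxo.1 hxo.2
  refine le_antisymm ?_ ?_
  · obtain ⟨p, q, r, hpq, -, -, he⟩ := card_eq_three.mp htr
    have hp : p ∈ tr x := by rw [he]; simp
    have hq : q ∈ tr x := by rw [he]; simp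
    have hsub : insert x (twins R a x) ⊆ (nh p ∩ nh q).erase a := by
      intro u hu
      have h : tr u = tr x ∧ u ≠ a := by
        rcases mem_insert.mp hu with rfl | hu
        · exact ⟨rfl, hxo.1⟩
        · simp only [twins, mem_filter, mem_outs] at hu; exact ⟨hu.2.2, hu.1.1⟩
      rw [← h.1, mem_tr] at hp hq
      simp [h.2, hp.2.symm, hq.2.symm]
    rw [mem_tr] at hp hq
    have hpqn : ¬ R.Adj p q := fun h => hxo.1 (third_unique hR h hp.2.symm hq.2.symm hp.1.symm hq.1.symm)
    have := card_le_card hsub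
    rw [card_erase_of_mem (by simp [hp.1.symm, hq.1.symm]), mu_three hR (Ne.symm hpq) hpqn,
      card_insert_of_notMem (by simp [twins])] at this
    omega
  · obtain ⟨w, hw⟩ := card_pos.mp (by rw [deg_outs hR a hx]; norm_num : 0 < (nh x ∩ outs R a).card)
    rw [mem_inter, mem_nh] at hw
    obtain ⟨p, px, pw, up, -⟩ := edge_trace hR a hx hw.2 hw.1
    -- `w` is a partner of `x`; go round a square
    obtain ⟨p₁, hp₁, hp₁p⟩ := exists_mem_ne (s := tr w) (by
      rw [mu_three hR ((mem_outs a).mp hw.2).1 ((mem_outs a).mp hw.2).2]; norm_num) p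
    obtain ⟨y, hy, hwy, hy1⟩ := exists_partner hR a hw.2 hp₁
    obtain ⟨p', p'w, p'y, up', -⟩ := edge_trace hR a hw.2 hy hwy
    -- a third point of the trace of `w`
    obtain ⟨p₂, hp₂, h2⟩ : ∃ p₂ ∈ tr w, p₂ ≠ p ∧ p₂ ≠ p₁ := by
      obtain ⟨p₂, h⟩ := card_pos.mp (show 0 < (((tr w).erase p).erase p₁).card by
        rw [card_erase_of_mem, card_erase_of_mem pw,
          mu_three hR ((mem_outs a).mp hw.2).1 ((mem_outs a).mp hw.2).2]
        · norm_num
        · simp [hp₁p, mem_inter.mp hp₁ |>.1, mem_inter.mp hp₁ |>.2])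
      simp only [mem_erase] at h
      exact ⟨p₂, h.2.2, h.2.1, h.1⟩
    obtain ⟨q, q1, q2⟩ := exists_third hR (mem_tr a |>.mp hp₂).1
    have hq_y : q ∈ tr y := by
      rw [mem_tr] at hp₂ ⊢
      refine ⟨q1, ?_⟩
      have hyo := (mem_outs a).mp hy
      rcases (antiflag hR hp₂.1 q1 q2 hyo.1 (x := y) (fun e => hyo.2 (e ▸ hp₂.1))
        (fun e => hyo.2 (e ▸ q1))).1 with e | e | e
      · exact absurd e hyo.2
      · exact absurd ((up' p₂ (by simp [hp₂.1, hp₂.2]) (by simp [hp₂.1, e.symm])).trans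
          (up' p₁ hp₁ hy1).symm) h2.2
      · exact e.symm
    obtain ⟨z, hz, hyz, hzq⟩ := exists_partner hR a hy hq_y
    obtain ⟨p'', -, -, up'', uz⟩ := edge_trace hR a hy hz hyz
    refine card_pos.mpr ⟨z, mem_filter.mpr ⟨hz, ?_, ?_⟩⟩
    · rintro rfl
      -- `x, w, y` would be a triangle
      obtain ⟨p3, -, p3y, -, u3⟩ := edge_trace hR a hw.2 hx hw.1.symm
      have e1 := u3 y hwy hyz.symm
      rw [e1] at hy
      have := (mem_outs a).mp hy
      simp only [mem_inter, mem_nh] at p3y
      exact this.2 p3y.1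
    · -- both traces avoid the same points
      have hxo' := hxo
      have hzo := (mem_outs a).mp hz
      have hyo := (mem_outs a).mp hy
      have hwo := (mem_outs a).mp hw.2
      have alt : ∀ {u q₀ q₁ : α}, u ≠ a ∧ ¬ R.Adj a u → R.Adj a q₀ → R.Adj a q₁ → R.Adj q₀ q₁ →
          (q₀ ∈ tr u ↔ q₁ ∉ tr u) := by
        intro u q₀ q₁ hu h0 h1 h01
        have a1 := antiflag hR h0 h1 h01 hu.1 (x := u) (fun e => hu.2 (e ▸ h0))
          (fun e => hu.2 (e ▸ h1))
        have a2 := antiflag hR h01 h0.symm h1.symm (x := u) (fun e => hu.2 (e ▸ h0))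
          (fun e => hu.2 (e ▸ h1)) hu.1
        rw [mem_tr, mem_tr]
        refine ⟨fun h hh => a2.2 ⟨h.2.symm, hh.2.symm⟩, fun h => ⟨h0, ?_⟩⟩
        rcases a1.1 with e | e | e
        exacts [absurd e hu.2, e.symm, absurd ⟨h1, e.symm⟩ h]
      obtain ⟨r₁, r1a, r1b⟩ := exists_third hR (mem_tr a |>.mp hp₁).1
      obtain ⟨r, ra, rb⟩ := exists_third hR (mem_tr a |>.mp pw).1
      have ap₁ := (mem_tr a |>.mp hp₁).1
      have ap := (mem_tr a |>.mp pw).1
      have ap₂ := (mem_tr a |>.mp hp₂).1
      -- the trace of `x` is `p, r₁, q`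
      have x1 : r₁ ∈ tr x := by
        by_contra h
        exact hp₁p (up p₁ ((alt hxo ap₁ r1a r1b).mpr h) hp₁)
      have x2 : q ∈ tr x := by
        by_contra h
        exact h2.1 (up p₂ ((alt hxo ap₂ q1 q2).mpr h) hp₂)
      -- the trace of `z` too
      have y1 : r ∈ tr y := by
        by_contra h
        exact hp₁p ((up' p₁ hp₁ hy1).trans (up' p pw ((alt hyo ap ra rb).mpr h)).symm)
      have hqr : r ≠ q := fun e => h2.1 (third_unique hR q1 ap₂ q2.symm ap (e ▸ rb.symm))
      have hqp₁ : p₁ ≠ q := by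
        rintro rfl
        exact (alt hwo ap₂ q1 q2).mp hp₂ hp₁
      have z0 : p ∈ tr z := by
        rw [alt hzo ap ra rb]
        exact fun h => hqr ((up'' r y1 h).trans (up'' q hq_y hzq).symm)
      have z1 : r₁ ∈ tr z := by
        by_contra h
        exact hqp₁ ((up'' p₁ hy1 ((alt hzo ap₁ r1a r1b).mpr h)).trans (up'' q hq_y hzq).symm)
      have hx3 : ({p, r₁, q} : Finset α).card = 3 := by
        rw [card_eq_three]
        refine ⟨p, r₁, q, ?_, ?_, ?_, rfl⟩
        · rintro rfl
          exact (alt hwo ap₁ r1a r1b).mp hp₁ pw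
        · rintro rfl
          exact (alt hwo ap₂ q1 q2).mp hp₂ pw
        · exact fun e => h2.2 (third_unique hR q1 ap₂ q2.symm ap₁ (e ▸ r1b.symm))
      have ex : ({p, r₁, q} : Finset α) = tr x :=
        eq_of_subset_of_card_le (by simp only [insert_subset_iff, singleton_subset_iff]
                                    exact ⟨px, x1, x2⟩) (by rw [htr, hx3])
      have ez : ({p, r₁, q} : Finset α) = tr z :=
        eq_of_subset_of_card_le (by simp only [insert_subset_iff, singleton_subset_iff]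
                                    exact ⟨z0, z1, hzq⟩) (by rw [mu_three hR hzo.1 hzo.2, hx3])
      rw [← ez, ← ex]

/-- Exactly one independent 4-set of outside points contains a given one. -/
theorem indep_unique {x : α} (hx : x ∈ outs R a) :
    (((outs R a).powersetCard 4).filter
      fun I => x ∈ I ∧ ∀ u ∈ I, ∀ w ∈ I, ¬ R.Adj u w).card = 1 := by
  choose tw htw using fun (u : α) (hu : u ∈ outs R a) => card_eq_one.mp (twins_card hR a hu)
  have htw' : ∀ u hu, tw u hu ∈ outs R a ∧ tw u hu ≠ u ∧ tr (tw u hu) = tr u := fun u hu => by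
    have := (htw u hu).ge (mem_singleton_self _)
    simpa only [twins, mem_filter] using this
  have uniq : ∀ u hu w, w ∈ outs R a → tr w = tr u → w = u ∨ w = tw u hu := fun u hu w hw e => by
    by_cases h : w = u
    · exact .inl h
    · exact .inr (mem_singleton.mp ((htw u hu).le (mem_filter.mpr ⟨hw, h, e⟩)))
  set D := nh x ∩ outs R a with hD
  have hDm : ∀ {y}, y ∈ D → y ∈ outs R a ∧ R.Adj x y := fun hy =>
    ⟨(mem_inter.mp hy).2, mem_nh.mp (mem_inter.mp hy).1⟩
  have inj : ∀ {y z}, y ∈ D → z ∈ D → tr y = tr z → y = z := by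
    intro y z hy hz e
    obtain ⟨p, hp1, hp2, -, -⟩ := edge_trace hR a hx (hDm hy).1 (hDm hy).2
    exact partner_unique hR (hDm hy).2 (hDm hz).2 (mem_tr a |>.mp hp1).2 (mem_tr a |>.mp hp2).2
      (mem_tr a |>.mp (e ▸ hp2)).2
  let f : {y // y ∈ D} → α := fun y => tw y.1 (hDm y.2).1
  have finj : Function.Injective f := by
    intro y z e
    apply Subtype.ext
    refine inj y.2 z.2 ?_
    rw [← (htw' _ (hDm y.2).1).2.2, ← (htw' _ (hDm z.2).1).2.2]
    exact congrArg (fun u => tr u) e
  set E := univ.image f with hE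
  have hEc : E.card = 3 := by
    rw [hE, card_image_of_injective _ finj, card_univ, Fintype.card_coe, hD, deg_outs hR a hx]
  have xE : ∀ y : {y // y ∈ D}, ¬ R.Adj x (f y) := by
    intro y h
    have hf : f y ∈ D := mem_inter.mpr ⟨mem_nh.mpr h, (htw' _ (hDm y.2).1).1⟩
    exact (htw' _ (hDm y.2).1).2.1 (inj hf y.2 (htw' _ (hDm y.2).1).2.2)
  have xnE : x ∉ E := by
    intro h
    obtain ⟨y, -, e⟩ := mem_image.mp h
    have e' : tr y.1 = tr x := by rw [← e]; exact ((htw' _ (hDm y.2).1).2.2).symm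
    obtain ⟨p, -, -, up, -⟩ := edge_trace hR a hx (hDm y.2).1 (hDm y.2).2
    have h3 : (tr x).card ≤ 1 :=
      card_le_one.mpr fun r hr s hs => (up r hr (e' ▸ hr)).trans (up s hs (e' ▸ hs)).symm
    rw [mu_three hR ((mem_outs a).mp hx).1 ((mem_outs a).mp hx).2] at h3
    omega
  have EE : ∀ y z : {y // y ∈ D}, ¬ R.Adj (f y) (f z) := by
    intro y z h
    obtain ⟨hy, hxy⟩ := hDm y.2
    obtain ⟨hz, hxz⟩ := hDm z.2
    obtain ⟨ty, tyne, tye⟩ := htw' _ hy
    obtain ⟨tz, tzne, tze⟩ := htw' _ hz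
    obtain ⟨q, q1, q2, -, -⟩ := edge_trace hR a ty tz h
    have q1' : q ∈ tr y.1 := tye ▸ q1
    obtain ⟨w, hw, hyw, hqw⟩ := exists_partner hR a hy q1'
    have e1 := trace_eq hR a hy hw ty tz hyw h tye.symm q1' hqw q2
    rcases uniq _ hz w hw (e1.trans tze) with e | e
    · -- a triangle `x, y, z`
      subst e
      obtain ⟨p, hp, -, -, up⟩ := edge_trace hR a hx hy hxy
      have := up z.1 hxz hyw
      exact ((mem_outs a).mp hz).2 (this ▸ (mem_tr a |>.mp hp).1)
    · have h' : R.Adj (f z) y.1 := (e ▸ hyw).symm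
      exact tyne (partner_unique hR h.symm h' (mem_tr a |>.mp q2).2 (mem_tr a |>.mp q1).2
        (mem_tr a |>.mp q1').2)
  rw [card_eq_one]
  refine ⟨insert x E, ?_⟩
  ext I
  simp only [mem_filter, mem_powersetCard, mem_singleton]
  constructor
  · rintro ⟨⟨hIs, hIc⟩, hxI, hI⟩
    refine eq_of_subset_of_card_le ?_ (by rw [card_insert_of_notMem xnE, hEc, hIc])
    -- every member is `x` or lies in `E`
    intro u hu
    by_contra hne
    obtain ⟨x', hx'⟩ : ∃ x', x' = tw x hx := ⟨_, rfl⟩
    obtain ⟨tx, txne, txe⟩ := htw' x hx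
    have hout : outs R a = insert x (insert (tw x hx) (D ∪ E)) := by
      refine (eq_of_subset_of_card_le ?_ ?_).symm
      · simp only [insert_subset_iff, union_subset_iff]
        refine ⟨hx, tx, inter_subset_right, fun w hw => ?_⟩
        obtain ⟨y, -, rfl⟩ := mem_image.mp hw
        exact (htw' _ (hDm y.2).1).1
      · rw [outs_card hR, card_insert_of_notMem, card_insert_of_notMem, card_union_of_disjoint,
          hEc, hD, deg_outs hR a hx]
        · rw [disjoint_left]
          intro w h1 h2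
          obtain ⟨y, -, rfl⟩ := mem_image.mp h2
          exact xE y (hDm h1).2
        · rw [mem_union]
          rintro (h | h)
          · exact (hDm h).2.ne (inj h h rfl ▸ (by
              obtain ⟨p, -, -, up, -⟩ := edge_trace hR a hx (hDm h).1 (hDm h).2
              exfalso
              have h3 : (tr x).card ≤ 1 := card_le_one.mpr fun r hr s hs =>
                (up r hr (txe.symm ▸ hr)).trans (up s hs (txe.symm ▸ hs)).symm
              rw [mu_three hR ((mem_outs a).mp hx).1 ((mem_outs a).mp hx).2] at h3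
              omega))
          · obtain ⟨y, -, e⟩ := mem_image.mp h
            rcases uniq x hx y.1 (hDm y.2).1 (by
              rw [← (htw' _ (hDm y.2).1).2.2, ← txe]; exact congrArg (fun u => tr u) e) with e' | e'
            · exact (hDm y.2).2.ne e'.symm
            · exact (htw' _ (hDm y.2).1).2.1 (e.trans e'.symm)
        · rw [mem_insert, mem_union]
          rintro (h | h | h)
          exacts [txne h.symm, (hDm h).2.ne rfl, xnE h]
    have hu' := hout ▸ hIs hu
    simp only [mem_insert, mem_union] at hu' hne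
    rcases hu' with h | h | h | h
    · exact hne (.inl h)
    · subst h
      have hxE : ∀ y : {y // y ∈ D}, R.Adj (tw x hx) (f y) := by
        intro y
        obtain ⟨hy, hxy⟩ := hDm y.2
        obtain ⟨p, p1, p2, -, -⟩ := edge_trace hR a hx hy hxy
        obtain ⟨w, hw, hxw, hpw⟩ := exists_partner hR a tx (txe.symm ▸ p1)
        rcases uniq _ hy w hw (trace_eq hR a tx hw hx hy hxw hxy txe (txe.symm ▸ p1) hpw p2)
          with e | e
        · subst e
          exact (txne (partner_unique hR hxw.symm hxy.symm (mem_tr a |>.mp p2).2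
            (mem_tr a |>.mp (txe.symm ▸ p1)).2 (mem_tr a |>.mp p1).2)).elim
        · exact (show w = f y from e) ▸ hxw
      have hIsub : I ⊆ {x, tw x hx} := by
        intro w hw
        have hw' := hout ▸ hIs hw
        simp only [mem_insert, mem_union, mem_singleton] at hw' ⊢
        rcases hw' with h | h | h | h
        · exact .inl h
        · exact .inr h
        · exact absurd (hDm h).2 (hI x hxI w hw)
        · obtain ⟨y, -, rfl⟩ := mem_image.mp h
          exact absurd (hxE y) (hI _ hu _ hw)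
      have := (card_le_card hIsub).trans card_le_two
      omega
    · exact hI x hxI u hu (hDm h).2
    · exact hne (.inr h)
  · rintro rfl
    refine ⟨⟨?_, by rw [card_insert_of_notMem xnE, hEc]⟩, mem_insert_self _ _, ?_⟩
    · simp only [insert_subset_iff]
      refine ⟨hx, fun w hw => ?_⟩
      obtain ⟨y, -, rfl⟩ := mem_image.mp hw
      exact (htw' _ (hDm y.2).1).1
    · intro u hu w hw
      simp only [hE, mem_insert, mem_image, mem_univ, true_and] at hu hw
      rcases hu with rfl | ⟨y, rfl⟩ <;> rcases hw with rfl | ⟨z, rfl⟩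
      exacts [R.irrefl, xE z, fun h => xE y h.symm, EE y z]

/-- Two ovoids through each point. -/
theorem ovoids_thru : ((ovoids R).filter fun O => a ∈ O).card = 2 := by
  set J := ((outs R a).powersetCard 4).filter (fun I => ∀ u ∈ I, ∀ w ∈ I, ¬ R.Adj u w) with hJ
  have hsum : ∑ I ∈ J, I.card = 8 := by
    rw [← outs_card hR a]
    have e : ∀ I ∈ J, I.card = ∑ x ∈ outs R a, if x ∈ I then 1 else 0 := by
      intro I hI
      rw [← card_filter, filter_mem_eq_inter,
        inter_eq_right.mpr (mem_powersetCard.mp (mem_filter.mp hI).1).1]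
    rw [sum_congr rfl e, sum_comm, card_eq_sum_ones (outs R a)]
    refine sum_congr rfl fun x hx => ?_
    rw [← card_filter, ← indep_unique hR a hx, hJ, filter_filter]
    congr 1
    exact filter_congr fun I _ => and_comm
  have hc4 : ∀ I ∈ J, I.card = 4 := fun I hI => (mem_powersetCard.mp (mem_filter.mp hI).1).2
  rw [sum_congr rfl hc4, sum_const, smul_eq_mul] at hsum
  have hJ2 : J.card = 2 := by omega
  rw [← hJ2]
  refine card_bij' (fun O _ => O.erase a) (fun I _ => insert a I) ?_ ?_ ?_ ?_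
  · intro O hO
    simp only [ovoids, mem_filter, mem_powersetCard] at hO
    obtain ⟨⟨⟨-, hc⟩, hi⟩, ha⟩ := hO
    simp only [hJ, mem_filter, mem_powersetCard, card_erase_of_mem ha, hc]
    exact ⟨⟨fun u hu => (mem_outs a).mpr
      ⟨(mem_erase.mp hu).1, hi a ha u (mem_erase.mp hu).2⟩, trivial⟩,
      fun u hu w hw => hi u (mem_erase.mp hu).2 w (mem_erase.mp hw).2⟩
  · intro I hI
    simp only [hJ, mem_filter, mem_powersetCard] at hI
    obtain ⟨⟨hs, hc⟩, hi⟩ := hI
    have haI : a ∉ I := fun h => ((mem_outs a).mp (hs h)).1 rfl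
    simp only [ovoids, mem_filter, mem_powersetCard, card_insert_of_notMem haI, hc]
    refine ⟨⟨⟨subset_univ _, trivial⟩, ?_⟩, mem_insert_self _ _⟩
    intro u hu w hw
    rcases mem_insert.mp hu with e | hu <;> rcases mem_insert.mp hw with e' | hw
    · rw [e, e']; exact R.irrefl
    · rw [e]; exact ((mem_outs a).mp (hs hw)).2
    · rw [e']; exact fun h => ((mem_outs a).mp (hs hu)).2 h.symm
    · exact hi u hu w hw
  · intro O hO
    exact insert_erase (mem_filter.mp hO).2
  · intro I hI
    exact erase_insert fun h =>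
      ((mem_outs a).mp ((mem_powersetCard.mp (mem_filter.mp hI).1).1 h)).1 rfl

omit a in
/-- Six ovoids in all. -/
theorem ovoids_card : (ovoids R).card = 6 := by
  have e : ∀ O ∈ ovoids R, O.card = ∑ x : α, if x ∈ O then 1 else 0 := by
    intro O _
    rw [← card_filter, filter_univ_mem]
  have h : ∑ O ∈ ovoids R, O.card = 30 := by
    rw [sum_congr rfl e, sum_comm, sum_congr rfl fun x _ => show _ = 2 by
      rw [← card_filter]; exact ovoids_thru hR x, sum_const, card_univ, hR.card]
    rfl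
  have hc5 : ∀ O ∈ ovoids R, O.card = 5 := fun O hO =>
    (mem_powersetCard.mp (mem_filter.mp hO).1).2
  rw [sum_congr rfl hc5, sum_const, smul_eq_mul] at h
  omega

end Cfsg.Agent.Steiner.SRG77
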