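import Cfsg.Agent.Lib.Steiner.SRG77.Basic
import Cfsg.Agent.Lib.Steiner.SRG77.Ovoid

/-!
# The fifteen lines at a vertex of a strongly regular graph (77, 16, 0, 4)
-/

set_option autoImplicit false

namespace Cfsg.Agent.Steiner.SRG77

open Finset

variable {V : Type*} [Fintype V] [DecidableEq V] {G : SimpleGraph V} [DecidableRel G.Adj]

local notation:max "nb" u:arg => SimpleGraph.neighborFinset G u

/-- The line at `v` through a far vertex `m`, without `v`. -/
def ln (G : SimpleGraph V) [DecidableRel G.Adj] (v m : V) : Finset V := insert m (rest G v m)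

variable (hG : G.IsSRGWith 77 16 0 4) {v : V}
include hG

omit hG in
theorem self_mem {m : V} : m ∈ ln G v m := mem_insert_self _ _

omit hG in
theorem mem_ln {m u : V} (hm : m ≠ v) (ha : ¬ G.Adj v m) :
    u ∈ ln G v m ↔ u = m ∨ Tri G v m u := by
  rw [ln, mem_insert, mem_rest hm.symm ha]

omit hG in
theorem far_of_mem {m u : V} (hm : m ≠ v) (ha : ¬ G.Adj v m) (hu : u ∈ ln G v m) :
    u ≠ v ∧ ¬ G.Adj v u := by
  rcases (mem_ln hm ha).mp hu with rfl | h
  exacts [⟨hm, ha⟩, ⟨h.ne₂.symm, h.nadj₂⟩]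

theorem card_ln {m : V} (hm : m ≠ v) (ha : ¬ G.Adj v m) : (ln G v m).card = 4 := by
  rw [ln, card_insert_of_notMem, card_rest hG hm.symm ha]
  rw [mem_rest hm.symm ha]
  exact fun h => h.ne₃ rfl

theorem tri_mem {m u w : V} (hm : m ≠ v) (ha : ¬ G.Adj v m) (hu : u ∈ ln G v m)
    (hw : w ∈ ln G v m) (hne : u ≠ w) : Tri G v u w := by
  rcases (mem_ln hm ha).mp hu with rfl | h <;> rcases (mem_ln hm ha).mp hw with rfl | h'
  exacts [(hne rfl).elim, h', h.swap', tri_trans hG h h' hne]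

theorem ln_eq {m u : V} (hm : m ≠ v) (ha : ¬ G.Adj v m) (hu : u ∈ ln G v m) :
    ln G v u = ln G v m := by
  obtain ⟨h1, h2⟩ := far_of_mem hm ha hu
  refine (eq_of_subset_of_card_le ?_ (by rw [card_ln hG hm ha, card_ln hG h1 h2])).symm
  intro w hw
  rw [mem_ln h1 h2]
  by_cases e : w = u
  exacts [.inl e, .inr (tri_mem hG hm ha hu hw (Ne.symm e))]

theorem nadj_ln {m u w : V} (hm : m ≠ v) (ha : ¬ G.Adj v m) (hu : u ∈ ln G v m)
    (hw : w ∈ ln G v m) : ¬ G.Adj u w := by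
  by_cases e : u = w
  exacts [e ▸ G.irrefl, (tri_mem hG hm ha hu hw e).nadj₃]

/-- No vertex is adjacent to three members of a line. -/
theorem le_two {m : V} (hm : m ≠ v) (ha : ¬ G.Adj v m) (z : V) : (nb z ∩ ln G v m).card ≤ 2 := by
  by_contra hlt
  obtain ⟨X, hX, hXc⟩ := exists_subset_card_eq (n := 3) (s := nb z ∩ ln G v m) (by omega)
  obtain ⟨a, b, c, hab, hac, hbc, rfl⟩ := card_eq_three.mp hXc
  simp only [insert_subset_iff, singleton_subset_iff, mem_inter, mem_nb] at hX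
  have t1 := (tri_mem hG hm ha hX.1.2 hX.2.1.2 hab).swap
  have t2 := (tri_mem hG hm ha hX.1.2 hX.2.2.2 hac).swap
  exact (tri_trans hG t1 t2 hbc).none z hX.1.1 hX.2.1.1 hX.2.2.1

/-- A neighbour of `v` is adjacent to exactly one member. -/
theorem one_member {m : V} (hm : m ≠ v) (ha : ¬ G.Adj v m) {x : V} (hx : G.Adj v x) :
    (nb x ∩ ln G v m).card = 1 := by
  have hle : ∀ y ∈ nb v, (nb y ∩ ln G v m).card ≤ 1 := fun y hy => card_le_one.mpr fun a h b h' => by
    simp only [mem_inter, mem_nb] at h h' hy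
    by_contra hne
    exact (tri_mem hG hm ha h.2 h'.2 hne).none y hy.symm h.1 h'.1
  have hsum : ∑ y ∈ nb v, (nb y ∩ ln G v m).card = ∑ _y ∈ nb v, 1 := by
    rw [sum_inter (ln G v m) (nb v), sum_const, card_nb hG, sum_const_nat (m := 4), card_ln hG hm ha]
    · rfl
    · intro u hu
      obtain ⟨h1, h2⟩ := far_of_mem hm ha hu
      rw [inter_comm]
      exact common_eq hG h1.symm h2
  exact (sum_eq_sum_iff_of_le hle).mp hsum x (mem_nb.mpr hx)

/-- A far vertex adjacent to a member is adjacent to exactly two. -/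
theorem adj_two {m : V} (hm : m ≠ v) (ha : ¬ G.Adj v m) {z : V} (hz : ¬ G.Adj v z)
    {u : V} (hu : u ∈ ln G v m) (hzu : G.Adj z u) : (nb z ∩ ln G v m).card = 2 := by
  obtain ⟨h1, h2⟩ := far_of_mem hm ha hu
  set U := insert v ((ln G v m).erase u) with hU
  have hpair : ∀ w ∈ U, ∀ w' ∈ U, w ≠ w' → Tri G u w w' := by
    intro w hw w' hw' hne
    simp only [hU, mem_insert, mem_erase] at hw hw'
    rcases hw with rfl | ⟨e, hw⟩ <;> rcases hw' with e' | ⟨e', hw'⟩
    · exact absurd e'.symm hne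
    · exact (tri_mem hG hm ha hu hw' (Ne.symm e')).swap
    · subst e'; exact ((tri_mem hG hm ha hu hw (Ne.symm e)).swap).swap'
    · exact tri_trans hG (tri_mem hG hm ha hu hw (Ne.symm e)).swap
        (tri_mem hG hm ha hu hw' (Ne.symm e')).swap hne
  have hadj : ∀ w ∈ U, u ≠ w ∧ ¬ G.Adj u w := by
    intro w hw
    simp only [hU, mem_insert, mem_erase] at hw
    rcases hw with rfl | ⟨e, hw⟩
    exacts [⟨h1, fun h => h2 h.symm⟩, ⟨Ne.symm e, nadj_ln hG hm ha hu hw⟩]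
  have hd : (U : Set V).PairwiseDisjoint fun w => nb u ∩ nb w := by
    intro w hw w' hw' hne
    refine disjoint_left.mpr fun y hy hy' => ?_
    simp only [mem_inter, mem_nb] at hy hy'
    exact (hpair w hw w' hw' hne).none y hy.1.symm hy.2.symm hy'.2.symm
  have hcov : U.biUnion (fun w => nb u ∩ nb w) = nb u := by
    refine eq_of_subset_of_card_le (fun y hy => ?_) ?_
    · obtain ⟨w, -, hw⟩ := mem_biUnion.mp hy; exact (mem_inter.mp hw).1
    · rw [card_biUnion hd, sum_congr rfl (fun w hw => common_eq hG (hadj w hw).1 (hadj w hw).2),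
        sum_const, card_nb hG, hU, card_insert_of_notMem, card_erase_of_mem hu, card_ln hG hm ha]
      · rfl
      · exact fun h => (far_of_mem hm ha (mem_of_mem_erase h)).1 rfl
  have hzm : z ∈ U.biUnion (fun w => nb u ∩ nb w) := by rw [hcov]; exact mem_nb.mpr hzu.symm
  obtain ⟨w, hw, hzw⟩ := mem_biUnion.mp hzm
  simp only [hU, mem_insert, mem_erase, mem_inter, mem_nb] at hw hzw
  rcases hw with rfl | ⟨e, hw⟩
  · exact absurd hzw.2 hz
  refine le_antisymm (le_two hG hm ha z) ?_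
  exact le_card_inter {u, w} (by simp [hzu, hzw.2.symm, hu, hw]) (card_pair (Ne.symm e))

/-- The intersection of the blocks of two vertices at `v`. -/
theorem row_sum {m : V} (hm : m ≠ v) (ha : ¬ G.Adj v m) {z : V} (hzv : z ≠ v) (hz : ¬ G.Adj v z) :
    ∑ u ∈ ln G v m, (nb u ∩ (nb v ∩ nb z)).card = 4 := by
  rw [← sum_inter (ln G v m) (nb v ∩ nb z),
    sum_const_nat (m := 1) (fun x hx => one_member hG hm ha (mem_nb.mp (mem_inter.mp hx).1)),
    common_eq hG hzv.symm hz]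

theorem entry_le {u z : V} (hu : u ≠ v) (hzv : z ≠ v) (hne : u ≠ z) :
    (nb u ∩ (nb v ∩ nb z)).card ≤ 2 := by
  rw [← inter_assoc]
  exact no_k33 hG hu hne hzv.symm

theorem entry_zero {u z : V} (h : G.Adj z u) : (nb u ∩ (nb v ∩ nb z)).card = 0 := by
  rw [card_eq_zero, eq_empty_iff_forall_notMem]
  intro x hx
  simp only [mem_inter, mem_nb] at hx
  exact tri_free hG h.symm hx.1 hx.2.2

theorem entry_pos {m u z : V} (hm : m ≠ v) (ha : ¬ G.Adj v m) (hu : u ∈ ln G v m) (hzv : z ≠ v)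
    (hz : ¬ G.Adj v z) (hzl : z ∉ ln G v m) (hn : ¬ G.Adj z u) :
    1 ≤ (nb u ∩ (nb v ∩ nb z)).card := by
  obtain ⟨h1, h2⟩ := far_of_mem hm ha hu
  by_contra h0
  refine hzl ?_
  rw [← ln_eq hG hm ha hu, mem_ln h1 h2]
  refine .inr ⟨h1.symm, hzv.symm, fun e => hzl (e ▸ hu), h2, hz, fun e => hn e.symm,
    fun x p q r => ?_⟩
  exact h0 (card_pos.mpr ⟨x, by simp [p.symm, q.symm, r.symm]⟩)

/-- Skewness of a vertex to a line. -/
theorem skew_row {m z : V} (hm : m ≠ v) (ha : ¬ G.Adj v m) (hzv : z ≠ v) (hz : ¬ G.Adj v z)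
    (hsk : ∃ u ∈ ln G v m, G.Adj z u) :
    z ∉ ln G v m ∧ ∀ u ∈ ln G v m, ¬ G.Adj z u → (nb u ∩ (nb v ∩ nb z)).card = 2 := by
  obtain ⟨u₀, hu₀, hzu₀⟩ := hsk
  have hzl : z ∉ ln G v m := fun h => nadj_ln hG hm ha h hu₀ hzu₀
  refine ⟨hzl, fun u hu hn => ?_⟩
  have hsum := row_sum hG hm ha hzv hz
  have h2 := adj_two hG hm ha hz hu₀ hzu₀
  have hle : ∀ w ∈ ln G v m, (nb w ∩ (nb v ∩ nb z)).card ≤ if G.Adj z w then 0 else 2 := by
    intro w hw
    split_ifs with h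
    · rw [entry_zero hG h]
    · exact entry_le hG (far_of_mem hm ha hw).1 hzv (fun e => hzl (e ▸ hw))
  have heq : ∑ w ∈ ln G v m, (nb w ∩ (nb v ∩ nb z)).card =
      ∑ w ∈ ln G v m, if G.Adj z w then 0 else 2 := by
    rw [hsum, sum_ite, sum_const_zero, zero_add, sum_const, smul_eq_mul]
    have h4 := card_filter_add_card_filter_not (s := ln G v m) (fun w => G.Adj z w)
    have e : (ln G v m).filter (fun w => G.Adj z w) = nb z ∩ ln G v m := by
      ext w; simp [and_comm]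
    rw [e, h2, card_ln hG hm ha] at h4
    omega
  have := (sum_eq_sum_iff_of_le hle).mp heq u hu
  rwa [if_neg hn] at this

theorem meet_row {m z : V} (hm : m ≠ v) (ha : ¬ G.Adj v m) (hzv : z ≠ v) (hz : ¬ G.Adj v z)
    (hzl : z ∉ ln G v m) (hmeet : ∀ u ∈ ln G v m, ¬ G.Adj z u) :
    ∀ u ∈ ln G v m, (nb u ∩ (nb v ∩ nb z)).card = 1 := by
  intro u hu
  have hle : ∀ w ∈ ln G v m, 1 ≤ (nb w ∩ (nb v ∩ nb z)).card := fun w hw =>
    entry_pos hG hm ha hw hzv hz hzl (hmeet w hw)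
  have heq : ∑ _w ∈ ln G v m, 1 = ∑ w ∈ ln G v m, (nb w ∩ (nb v ∩ nb z)).card := by
    rw [row_sum hG hm ha hzv hz, sum_const, card_ln hG hm ha]; rfl
  exact ((sum_eq_sum_iff_of_le hle).mp heq u hu).symm

omit hG in
theorem entry_comm (u z : V) : (nb u ∩ (nb v ∩ nb z)).card = (nb z ∩ (nb v ∩ nb u)).card := by
  congr 1
  ext x
  simp only [mem_inter]
  tauto

/-- Skewness is a relation between lines. -/
theorem skew_congr {m z z' : V} (hm : m ≠ v) (ha : ¬ G.Adj v m) (hzv : z ≠ v) (hz : ¬ G.Adj v z)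
    (hz' : z' ∈ ln G v z) (hsk : ∃ u ∈ ln G v m, G.Adj z u) : ∃ u ∈ ln G v m, G.Adj z' u := by
  obtain ⟨hzl, hrow⟩ := skew_row hG hm ha hzv hz hsk
  obtain ⟨hv', hz'a⟩ := far_of_mem hzv hz hz'
  obtain ⟨u₀, hu₀, hzu₀⟩ := hsk
  -- a member nonadjacent to `z`
  obtain ⟨u, hu, hn⟩ : ∃ u ∈ ln G v m, ¬ G.Adj z u := by
    by_contra! h
    have h1 : ln G v m ⊆ nb z ∩ ln G v m := fun w hw => mem_inter.mpr ⟨mem_nb.mpr (h w hw), hw⟩
    have := card_le_card h1
    rw [card_ln hG hm ha, adj_two hG hm ha hz hu₀ hzu₀] at this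
    omega
  obtain ⟨huv, hua⟩ := far_of_mem hm ha hu
  have hul : u ∉ ln G v z := fun h => hzl (by
    rw [← ln_eq hG hm ha hu, ln_eq hG hzv hz h]; exact self_mem)
  have husk : ∃ w ∈ ln G v z, G.Adj u w := by
    by_contra! h
    have h1 := meet_row hG hzv hz huv hua hul h z self_mem
    rw [entry_comm, hrow u hu hn] at h1
    omega
  by_cases h : G.Adj z' u
  · exact ⟨u, hu, h⟩
  have h2 := (skew_row hG hzv hz huv hua husk).2 z' hz' (fun e => h e.symm)
  by_contra! hno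
  have hz'l : z' ∉ ln G v m := fun e => hzl (by
    rw [← ln_eq hG hm ha e, ln_eq hG hzv hz hz']; exact self_mem)
  have h3 := meet_row hG hm ha hv' hz'a hz'l hno u hu
  rw [entry_comm] at h3
  omega

/-- Vertices adjacent to two given members. -/
theorem two_far {m u₁ u₂ : V} (hm : m ≠ v) (ha : ¬ G.Adj v m) (h1 : u₁ ∈ ln G v m)
    (h2 : u₂ ∈ ln G v m) (hne : u₁ ≠ u₂) {p : V} (hp : p ∈ nb u₁ ∩ nb u₂) :
    p ≠ v ∧ ¬ G.Adj v p ∧ p ∉ ln G v m ∧ nb p ∩ ln G v m = {u₁, u₂} := by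
  simp only [mem_inter, mem_nb] at hp
  refine ⟨fun e => (far_of_mem hm ha h1).2 (e ▸ hp.1).symm, fun h => ?_,
    fun e => nadj_ln hG hm ha h1 e hp.1, ?_⟩
  · exact (tri_mem hG hm ha h1 h2 hne).none p h.symm hp.1.symm hp.2.symm
  · refine (eq_of_subset_of_card_le ?_ ?_).symm
    · simp [insert_subset_iff, hp.1.symm, hp.2.symm, h1, h2]
    · rw [card_pair hne]; exact le_two hG hm ha p

/-- Neighbours of `v` at another member: two in common with the pair. -/
theorem point_pair {m u₁ u₂ u₃ : V} (hm : m ≠ v) (ha : ¬ G.Adj v m) (h1 : u₁ ∈ ln G v m)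
    (h2 : u₂ ∈ ln G v m) (h3 : u₃ ∈ ln G v m) (h12 : u₁ ≠ u₂) (h13 : u₁ ≠ u₃) (h23 : u₂ ≠ u₃)
    {x : V} (hx : G.Adj v x) (hxu : G.Adj x u₃) : (nb x ∩ (nb u₁ ∩ nb u₂)).card = 2 := by
  obtain ⟨u₄, hu₄⟩ := card_eq_one.mp (show ((((ln G v m).erase u₁).erase u₂).erase u₃).card = 1 by
    rw [card_erase_of_mem, card_erase_of_mem, card_erase_of_mem h1, card_ln hG hm ha] <;>
      simp [h2, h3, h12.symm, h13.symm, h23.symm])
  have h4 := hu₄.ge (mem_singleton_self u₄)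
  simp only [mem_erase] at h4
  obtain ⟨e43, e42, e41, h4⟩ := h4
  have hall : ∀ w ∈ ln G v m, w = u₁ ∨ w = u₂ ∨ w = u₃ ∨ w = u₄ := by
    intro w hw
    by_contra! h
    exact h.2.2.2 (mem_singleton.mp (hu₄.le (by simp [hw, h.1, h.2.1, h.2.2.1])))
  have hxn : ∀ w ∈ ln G v m, w ≠ u₃ → x ≠ w ∧ ¬ G.Adj x w := by
    intro w hw hne
    refine ⟨fun e => (far_of_mem hm ha hw).2 (e ▸ hx), fun e => hne ?_⟩
    exact card_le_one.mp (one_member hG hm ha hx).le w (by simp [e, hw]) u₃ (by simp [hxu, h3])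
  have split : ∀ a b c, a ∈ ln G v m → b ∈ ln G v m → c ∈ ln G v m → a ≠ b → a ≠ c → b ≠ c →
      a ≠ u₃ → b ≠ u₃ → c ≠ u₃ → (∀ w ∈ ln G v m, w = a ∨ w = b ∨ w = c ∨ w = u₃) →
      (nb x ∩ (nb a ∩ nb b)).card + (nb x ∩ (nb a ∩ nb c)).card = 4 := by
    intro a b c ha' hb hc hab hac hbc a3 b3 c3 hcov
    rw [← common_eq hG (hxn a ha' a3).1 (hxn a ha' a3).2, ← card_union_of_disjoint]
    · congr 1
      ext y
      simp only [mem_union, mem_inter, mem_nb]
      refine ⟨by tauto, fun hy => ?_⟩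
      have hyv : ¬ G.Adj v y := fun e => tri_free hG hx e hy.1
      obtain ⟨w, hw, hwa⟩ := exists_mem_ne (s := nb y ∩ ln G v m)
        (by rw [adj_two hG hm ha hyv ha' hy.2.symm]; norm_num) a
      simp only [mem_inter, mem_nb] at hw
      rcases hcov w hw.2 with rfl | rfl | rfl | rfl
      exacts [absurd rfl hwa, .inl ⟨hy.1, hy.2, hw.1.symm⟩, .inr ⟨hy.1, hy.2, hw.1.symm⟩,
        absurd hw.1 (tri_free hG hy.1 hxu)]
    · refine disjoint_left.mpr fun y hy hy' => ?_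
      simp only [mem_inter, mem_nb] at hy hy'
      exact (tri_trans hG (tri_mem hG hm ha ha' hb hab).swap (tri_mem hG hm ha ha' hc hac).swap
        hbc).none y hy.2.1.symm hy.2.2.symm hy'.2.2.symm
  have s1 := split u₁ u₂ u₄ h1 h2 h4 h12 e41.symm e42.symm h13 h23 e43
    (fun w hw => by rcases hall w hw with h | h | h | h <;> simp [h])
  have s2 := split u₂ u₁ u₄ h2 h1 h4 h12.symm e42.symm e41.symm h23 h13 e43
    (fun w hw => by rcases hall w hw with h | h | h | h <;> simp [h])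
  have s4 := split u₄ u₁ u₂ h4 h1 h2 e41 e42 h12 e43 h13 h23
    (fun w hw => by rcases hall w hw with h | h | h | h <;> simp [h])
  rw [inter_comm (nb u₂) (nb u₁)] at s2
  rw [inter_comm (nb u₄) (nb u₁), inter_comm (nb u₄) (nb u₂)] at s4
  omega

/-- The entries of the common neighbours of a pair add up to 8. -/
theorem pair_sum {m u₁ u₂ : V} (hm : m ≠ v) (ha : ¬ G.Adj v m) (h1 : u₁ ∈ ln G v m)
    (h2 : u₂ ∈ ln G v m) (hne : u₁ ≠ u₂) {p : V} (hp : p ∈ nb u₁ ∩ nb u₂) :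
    ∑ q ∈ nb u₁ ∩ nb u₂, (nb q ∩ (nb v ∩ nb p)).card = 8 := by
  obtain ⟨hpv, hpa, -, hP⟩ := two_far hG hm ha h1 h2 hne hp
  rw [← sum_inter (nb u₁ ∩ nb u₂) (nb v ∩ nb p), sum_const_nat (m := 2) (fun x hx => ?_),
    common_eq hG hpv.symm hpa]
  simp only [mem_inter, mem_nb] at hx hp
  obtain ⟨u₃, hu₃⟩ := card_eq_one.mp (one_member hG hm ha hx.1)
  have h3 := hu₃.ge (mem_singleton_self u₃)
  simp only [mem_inter, mem_nb] at h3
  refine point_pair hG hm ha h1 h2 h3.2 hne ?_ ?_ hx.1 h3.1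
  · rintro rfl; exact tri_free hG hx.2 hp.1.symm h3.1
  · rintro rfl; exact tri_free hG hx.2 hp.2.symm h3.1

/-- Two common neighbours of a pair sharing two points share them at one member. -/
theorem same_member {m u₁ u₂ u₃ u₄ : V} (hm : m ≠ v) (ha : ¬ G.Adj v m) (h1 : u₁ ∈ ln G v m)
    (h2 : u₂ ∈ ln G v m) (h3 : u₃ ∈ ln G v m) (h4 : u₄ ∈ ln G v m) (h12 : u₁ ≠ u₂)
    {p q b f : V} (hpq : p ≠ q) (hp : p ∈ nb u₁ ∩ nb u₂) (hq : q ∈ nb u₁ ∩ nb u₂)
    (hb : G.Adj v b ∧ G.Adj p b ∧ G.Adj q b ∧ G.Adj b u₃)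
    (hf : G.Adj v f ∧ G.Adj p f ∧ G.Adj q f ∧ G.Adj f u₄) (hbf : b ≠ f) : u₃ = u₄ := by
  by_contra h34
  obtain ⟨hpv, hpa, hpl, hP⟩ := two_far hG hm ha h1 h2 h12 hp
  obtain ⟨hqv, hqa, hql, hQ⟩ := two_far hG hm ha h1 h2 h12 hq
  simp only [mem_inter, mem_nb] at hp hq
  have e13 : u₁ ≠ u₃ := fun e => tri_free hG hb.2.1 hp.1.symm (e ▸ hb.2.2.2)
  have e23 : u₂ ≠ u₃ := fun e => tri_free hG hb.2.1 hp.2.symm (e ▸ hb.2.2.2)
  have e14 : u₁ ≠ u₄ := fun e => tri_free hG hf.2.1 hp.1.symm (e ▸ hf.2.2.2)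
  have e24 : u₂ ≠ u₄ := fun e => tri_free hG hf.2.1 hp.2.symm (e ▸ hf.2.2.2)
  obtain ⟨d, hd⟩ := card_pos.mp (show 0 < ((((nb b ∩ nb f).erase v).erase p).erase q).card by
    rw [card_erase_of_mem, card_erase_of_mem, card_erase_of_mem,
      common_eq hG hbf (tri_free hG hb.1 hf.1)]
    · norm_num
    all_goals simp [hb.1.symm, hf.1.symm, hb.2.1.symm, hf.2.1.symm, hb.2.2.1.symm, hf.2.2.1.symm,
      hpv, hqv, hpq.symm])
  simp only [mem_erase, mem_inter, mem_nb] at hd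
  obtain ⟨dq, dp, dv, db, df⟩ := hd
  have hda : ¬ G.Adj v d := fun e => tri_free hG hb.1 e db
  have hdT : ¬ (G.Adj u₁ d ∧ G.Adj u₂ d) := by
    intro h
    have hc := point_pair hG hm ha h1 h2 h3 h12 e13 e23 hb.1 hb.2.2.2
    have : ({p, q, d} : Finset V) ⊆ nb b ∩ (nb u₁ ∩ nb u₂) := by
      simp [insert_subset_iff, hb.2.1.symm, hb.2.2.1.symm, hp.1, hp.2, hq.1, hq.2, db, h.1, h.2]
    have := card_le_card this
    rw [card_three hpq (Ne.symm dp) (Ne.symm dq), hc] at this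
    omega
  have hdl : d ∉ ln G v m := by
    intro hd
    have e1 := card_le_one.mp (one_member hG hm ha hb.1).le d (by simp [db, hd]) u₃
      (by simp [hb.2.2.2, h3])
    have e2 := card_le_one.mp (one_member hG hm ha hf.1).le d (by simp [df, hd]) u₄
      (by simp [hf.2.2.2, h4])
    exact h34 (e1.symm.trans e2)
  have hmeet : ∀ u ∈ ln G v m, ¬ G.Adj d u := by
    intro u hu hdu
    have h2' := adj_two hG hm ha hda hu hdu
    have hnb : ¬ G.Adj d u₃ := fun e => tri_free hG db.symm e hb.2.2.2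
    have hnf : ¬ G.Adj d u₄ := fun e => tri_free hG df.symm e hf.2.2.2
    have hsub : nb d ∩ ln G v m ⊆ ((ln G v m).erase u₃).erase u₄ := by
      intro w hw
      simp only [mem_inter, mem_nb, mem_erase] at hw ⊢
      exact ⟨fun e => hnf (e ▸ hw.1), fun e => hnb (e ▸ hw.1), hw.2⟩
    have heq := eq_of_subset_of_card_le hsub (by
      rw [h2', card_erase_of_mem, card_erase_of_mem h3, card_ln hG hm ha]
      simp [h4, Ne.symm h34])
    have m1 : u₁ ∈ nb d ∩ ln G v m := by rw [heq]; simp [h1, e13, e14]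
    have m2 : u₂ ∈ nb d ∩ ln G v m := by rw [heq]; simp [h2, e23, e24]
    simp only [mem_inter, mem_nb] at m1 m2
    exact hdT ⟨m1.1.symm, m2.1.symm⟩
  have hrow := meet_row hG hm ha dv hda hdl hmeet
  obtain ⟨x, hx⟩ := card_eq_one.mp (hrow u₁ h1)
  obtain ⟨y, hy⟩ := card_eq_one.mp (hrow u₂ h2)
  have hx' := hx.ge (mem_singleton_self x)
  have hy' := hy.ge (mem_singleton_self y)
  simp only [mem_inter, mem_nb] at hx' hy'
  obtain ⟨v1, n1⟩ := far_of_mem hm ha h1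
  obtain ⟨v2, n2⟩ := far_of_mem hm ha h2
  have uniq : ∀ {z w w'}, G.Adj v z → w ∈ ln G v m → w' ∈ ln G v m → G.Adj z w → G.Adj z w' → w = w' :=
    fun hz hw hw' e e' =>
      card_le_one.mp (one_member hG hm ha hz).le _ (by simp [e, hw]) _ (by simp [e', hw'])
  have hxb : x ≠ b := fun e => e13 (uniq hb.1 h1 h3 (e ▸ hx'.1.symm) hb.2.2.2)
  have hxf : x ≠ f := fun e => e14 (uniq hf.1 h1 h4 (e ▸ hx'.1.symm) hf.2.2.2)
  have hyb : y ≠ b := fun e => e23 (uniq hb.1 h2 h3 (e ▸ hy'.1.symm) hb.2.2.2)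
  have hyf : y ≠ f := fun e => e24 (uniq hf.1 h2 h4 (e ▸ hy'.1.symm) hf.2.2.2)
  have hxy : x ≠ y := fun e => h12 (uniq hx'.2.1 h1 h2 hx'.1.symm (e ▸ hy'.1.symm))
  refine no_config hG (v := v) (p := p) (q := q) (d := d) (m₁ := u₁) (m₂ := u₂) (b := b) (f := f)
    (x := x) (y := y) ?_ ⟨hb.1, hf.1⟩ ⟨hb.2.1, hf.2.1, hp.1.symm, hp.2.symm⟩
    ⟨hb.2.2.1, hf.2.2.1, hq.1.symm, hq.2.symm⟩ ⟨db.symm, df.symm⟩
    ⟨hx'.2.1.symm, hx'.2.2.symm, hx'.1.symm⟩ ⟨hy'.2.1.symm, hy'.2.2.symm, hy'.1.symm⟩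
  have far : ∀ {z w : V}, ¬ G.Adj v z → G.Adj v w → z ≠ w := fun h h' e => h (e ▸ h')
  have nv : ∀ {w : V}, G.Adj v w → v ≠ w := fun h => h.ne
  have du1 : ¬ d = u₁ := fun e => hdl (by rw [e]; exact h1)
  have du2 : ¬ d = u₂ := fun e => hdl (by rw [e]; exact h2)
  simp [hpv.symm, hqv.symm, Ne.symm dv, v1.symm, v2.symm, nv hb.1, nv hf.1, nv hx'.2.1, nv hy'.2.1,
    hpq, Ne.symm dp, Ne.symm dq, hp.1.ne', hp.2.ne', hq.1.ne', hq.2.ne',
    du1, du2,
    far hpa hb.1, far hpa hf.1, far hpa hx'.2.1, far hpa hy'.2.1,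
    far hqa hb.1, far hqa hf.1, far hqa hx'.2.1, far hqa hy'.2.1,
    far hda hb.1, far hda hf.1, far hda hx'.2.1, far hda hy'.2.1,
    h12, far n1 hb.1, far n1 hf.1, far n1 hx'.2.1, far n1 hy'.2.1,
    far n2 hb.1, far n2 hf.1, far n2 hx'.2.1, far n2 hy'.2.1,
    hbf, hxb.symm, hyb.symm, hxf.symm, hyf.symm, hxy]

/-- The line of a common neighbour of a pair holds exactly two of them. -/
theorem partner {m u₁ u₂ : V} (hm : m ≠ v) (ha : ¬ G.Adj v m) (h1 : u₁ ∈ ln G v m)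
    (h2 : u₂ ∈ ln G v m) (h12 : u₁ ≠ u₂) {p : V} (hp : p ∈ nb u₁ ∩ nb u₂) :
    (ln G v p ∩ (nb u₁ ∩ nb u₂)).card = 2 := by
  obtain ⟨hpv, hpa, hpl, hP⟩ := two_far hG hm ha h1 h2 h12 hp
  refine le_antisymm ?_ ?_
  · refine (card_le_card (fun z hz => ?_)).trans (le_two hG hpv hpa u₁)
    simp only [mem_inter] at hz
    exact mem_inter.mpr ⟨hz.2.1, hz.1⟩
  have hd1 : nb u₁ ≠ ∅ := ne_empty_of_mem (mem_inter.mp hp).1
  have hsum := pair_sum hG hm ha h1 h2 h12 hp
  rw [← add_sum_erase _ _ hp] at hsum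
  have hself : (nb p ∩ (nb v ∩ nb p)).card = 4 := by
    rw [show nb p ∩ (nb v ∩ nb p) = nb v ∩ nb p by ext; simp, common_eq hG hpv.symm hpa]
  rw [hself] at hsum
  have hTc : ((nb u₁ ∩ nb u₂).erase p).card = 3 := by
    rw [card_erase_of_mem hp, common_eq hG h12 (nadj_ln hG hm ha h1 h2)]
  obtain ⟨q, hq, hq2⟩ : ∃ q ∈ (nb u₁ ∩ nb u₂).erase p, 2 ≤ (nb q ∩ (nb v ∩ nb p)).card := by
    by_contra! h
    have := sum_le_sum (s := (nb u₁ ∩ nb u₂).erase p) fun q hq => Nat.le_of_lt_succ (h q hq)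
    simp only [sum_const, hTc, smul_eq_mul, mul_one] at this
    omega
  obtain ⟨hqp, hq⟩ := mem_erase.mp hq
  obtain ⟨hqv, hqa, hql, hQ⟩ := two_far hG hm ha h1 h2 h12 hq
  have hq2' := le_antisymm (entry_le hG hqv hpv hqp) hq2
  obtain ⟨b, f, hbf, hbfe⟩ := card_eq_two.mp hq2'
  have hb := hbfe.ge (mem_insert_self b {f})
  have hf := hbfe.ge (mem_insert_of_mem (mem_singleton_self f))
  simp only [mem_inter, mem_nb] at hb hf
  obtain ⟨u₃, hu₃⟩ := card_eq_one.mp (one_member hG hm ha hb.2.1)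
  obtain ⟨u₄, hu₄⟩ := card_eq_one.mp (one_member hG hm ha hf.2.1)
  have h3 := hu₃.ge (mem_singleton_self _)
  have h4 := hu₄.ge (mem_singleton_self _)
  simp only [mem_inter, mem_nb] at h3 h4
  obtain rfl := same_member hG hm ha h1 h2 h3.2 h4.2 h12 (Ne.symm hqp) hp hq
    ⟨hb.2.1, hb.2.2, hb.1, h3.1⟩ ⟨hf.2.1, hf.2.2, hf.1, h4.1⟩ hbf
  simp only [mem_inter, mem_nb] at hp hq
  obtain ⟨h3v, h3a⟩ := far_of_mem hm ha h3.2
  have e13 : u₁ ≠ u₃ := fun e => tri_free hG hb.2.2 hp.1.symm (e ▸ h3.1)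
  have e23 : u₂ ≠ u₃ := fun e => tri_free hG hb.2.2 hp.2.symm (e ▸ h3.1)
  -- the two remaining points `c`, `d` at `u₃`
  set C := ((nb v ∩ nb u₃).erase b).erase f with hC
  have hCc : C.card = 2 := by
    rw [hC, card_erase_of_mem, card_erase_of_mem, common_eq hG h3v.symm h3a] <;>
      simp [hb.2.1, h3.1.symm, hf.2.1, h4.1.symm, hbf.symm]
  obtain ⟨c, d, hcd, hCe⟩ := card_eq_two.mp hCc
  have hcC : c ∈ C := by rw [hCe]; simp
  have hdC : d ∈ C := by rw [hCe]; simp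
  simp only [hC, mem_erase, mem_inter, mem_nb] at hcC hdC
  -- the member of the line of `p` at `c`
  obtain ⟨p', hp'⟩ := card_eq_one.mp (one_member hG hpv hpa hcC.2.2.1)
  have hp'm := hp'.ge (mem_singleton_self p')
  simp only [mem_inter, mem_nb] at hp'm
  obtain ⟨p'v, p'a⟩ := far_of_mem hpv hpa hp'm.2
  have hpsk : ∃ u ∈ ln G v m, G.Adj p u := ⟨u₁, h1, hp.1.symm⟩
  have hblock : ∀ z, z ≠ v → ¬ G.Adj v z → (∃ u ∈ ln G v m, G.Adj z u) → ¬ G.Adj z u₃ →
      ¬ G.Adj z b → ¬ G.Adj z f → nb u₃ ∩ (nb v ∩ nb z) = C := by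
    intro z zv za zsk z3 zb zf
    refine eq_of_subset_of_card_le ?_ ?_
    · intro w hw
      simp only [hC, mem_inter, mem_erase, mem_nb] at hw ⊢
      exact ⟨fun e => zf (e ▸ hw.2.2), fun e => zb (e ▸ hw.2.2), hw.2.1, hw.1⟩
    · rw [(skew_row hG hm ha zv za zsk).2 u₃ h3.2 z3, hCc]
  have hp'b : ¬ G.Adj p' b ∧ ¬ G.Adj p' f ∧ ¬ G.Adj p c := by
    have hpblock : nb u₃ ∩ (nb v ∩ nb p) = {b, f} := by
      refine (eq_of_subset_of_card_le ?_ ?_).symm
      · simp [insert_subset_iff, h3.1.symm, hb.2.1, hb.2.2, h4.1.symm, hf.2.1, hf.2.2]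
      · rw [card_pair hbf]; exact entry_le hG h3v hpv (fun e => hpl (e ▸ h3.2))
    have hpc : ¬ G.Adj p c := fun e => by
      have : c ∈ nb u₃ ∩ (nb v ∩ nb p) := by simp [hcC.2.2.2, hcC.2.2.1, e]
      rw [hpblock, mem_insert, mem_singleton] at this
      exact this.elim hcC.2.1 hcC.1
    have hne : p' ≠ p := fun e => hpc (e ▸ hp'm.1.symm)
    exact ⟨fun e => hne (card_le_one.mp (one_member hG hpv hpa hb.2.1).le p'
        (by simp [e.symm, hp'm.2]) p (by simp [hb.2.2.symm, self_mem])),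
      fun e => hne (card_le_one.mp (one_member hG hpv hpa hf.2.1).le p'
        (by simp [e.symm, hp'm.2]) p (by simp [hf.2.2.symm, self_mem])), hpc⟩
  have hp'sk := skew_congr hG hm ha hpv hpa hp'm.2 hpsk
  have hp'3 : ¬ G.Adj p' u₃ := fun e => tri_free hG hp'm.1.symm e hcC.2.2.2.symm
  have hB' := hblock p' p'v p'a hp'sk hp'3 hp'b.1 hp'b.2.1
  -- the other two common neighbours also sit on `c` and `d`
  obtain ⟨r, s, hrs, hrse⟩ := card_eq_two.mp (show (((nb u₁ ∩ nb u₂).erase p).erase q).card = 2 by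
    rw [card_erase_of_mem (by simp [hqp, hq.1, hq.2]), hTc])
  have hmem : ∀ z ∈ ({r, s} : Finset V), z ≠ q ∧ z ≠ p ∧ z ∈ nb u₁ ∩ nb u₂ := fun z hz => by
    rw [← hrse] at hz; simp only [mem_erase] at hz; exact hz
  have hbT : ∀ {z w}, z ∈ nb u₁ ∩ nb u₂ → z ≠ p → z ≠ q → G.Adj v w → G.Adj w u₃ →
      G.Adj p w → G.Adj q w → ¬ G.Adj z w := by
    intro z w hz zp zq hvw hw3 hpw hqw hzw
    have hc := point_pair hG hm ha h1 h2 h3.2 h12 e13 e23 hvw hw3
    have hsub : ({p, q, z} : Finset V) ⊆ nb w ∩ (nb u₁ ∩ nb u₂) := by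
      simp only [mem_inter, mem_nb] at hz
      simp [insert_subset_iff, hpw.symm, hqw.symm, hzw.symm, hp.1, hp.2, hq.1, hq.2, hz.1, hz.2]
    have := card_le_card hsub
    rw [card_three (Ne.symm hqp) (Ne.symm zp) (Ne.symm zq), hc] at this
    omega
  have hcd4 : ∀ z ∈ ({r, s} : Finset V), G.Adj z c ∧ G.Adj z d ∧ z ≠ v ∧ z ≠ u₃ := by
    intro z hz
    obtain ⟨zq, zp, hzT⟩ := hmem z hz
    obtain ⟨zv, za, zl, hZ⟩ := two_far hG hm ha h1 h2 h12 hzT
    have z3 : ¬ G.Adj z u₃ := fun e => by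
      have : u₃ ∈ nb z ∩ ln G v m := by simp [e, h3.2]
      rw [hZ, mem_insert, mem_singleton] at this
      exact this.elim e13.symm e23.symm
    simp only [mem_inter, mem_nb] at hzT
    have hB := hblock z zv za ⟨u₁, h1, hzT.1.symm⟩ z3
      (hbT (by simp [hzT.1, hzT.2]) zp zq hb.2.1 h3.1 hb.2.2 hb.1)
      (hbT (by simp [hzT.1, hzT.2]) zp zq hf.2.1 h4.1 hf.2.2 hf.1)
    have c1 : c ∈ nb u₃ ∩ (nb v ∩ nb z) := by rw [hB, hCe]; simp
    have d1 : d ∈ nb u₃ ∩ (nb v ∩ nb z) := by rw [hB, hCe]; simp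
    simp only [mem_inter, mem_nb] at c1 d1
    exact ⟨c1.2.2, d1.2.2, zv, fun e => zl (e ▸ h3.2)⟩
  have hr := hcd4 r (by simp)
  have hs := hcd4 s (by simp)
  have hfour : ({v, u₃, r, s} : Finset V) = nb c ∩ nb d := by
    refine eq_of_subset_of_card_le ?_ ?_
    · simp [insert_subset_iff, hcC.2.2.1.symm, hdC.2.2.1.symm, hcC.2.2.2.symm, hdC.2.2.2.symm,
        hr.1.symm, hr.2.1.symm, hs.1.symm, hs.2.1.symm]
    · rw [common_eq hG hcd (tri_free hG hcC.2.2.1 hdC.2.2.1), card_insert_of_notMem,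
        card_insert_of_notMem, card_pair hrs] <;>
        simp [h3v.symm, hr.2.2.1.symm, hs.2.2.1.symm, hr.2.2.2.symm, hs.2.2.2.symm]
  have hp'd : d ∈ nb u₃ ∩ (nb v ∩ nb p') := by rw [hB', hCe]; simp
  simp only [mem_inter, mem_nb] at hp'd
  have : p' ∈ ({v, u₃, r, s} : Finset V) := by rw [hfour]; simp [hp'm.1, hp'd.2.2.symm]
  simp only [mem_insert, mem_singleton] at this
  have hp'rs : p' ∈ ({r, s} : Finset V) := by
    rcases this with e | e | e | e
    · exact absurd e p'v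
    · exfalso
      obtain ⟨u, hu, hadj⟩ := hp'sk
      exact nadj_ln hG hm ha h3.2 hu (e ▸ hadj)
    · simp [e]
    · simp [e]
  obtain ⟨-, p'p, hp'T⟩ := hmem p' hp'rs
  refine le_trans ?_ (card_le_card (show ({p, p'} : Finset V) ⊆ ln G v p ∩ (nb u₁ ∩ nb u₂) from ?_))
  · rw [card_pair (Ne.symm p'p)]
  · simp only [insert_subset_iff, singleton_subset_iff, mem_inter] at hp'T ⊢
    exact ⟨⟨self_mem, by simp [hp.1], by simp [hp.2]⟩, hp'm.2, hp'T⟩

/-- Members of one line see the same pair or the opposite pair. -/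
theorem dichotomy {m u₁ u₂ : V} (hm : m ≠ v) (ha : ¬ G.Adj v m) (h1 : u₁ ∈ ln G v m)
    (h2 : u₂ ∈ ln G v m) (h12 : u₁ ≠ u₂) {p : V} (hp : p ∈ nb u₁ ∩ nb u₂) {z : V}
    (hz : z ∈ ln G v p) :
    nb z ∩ ln G v m = {u₁, u₂} ∨ nb z ∩ ln G v m = ln G v m \ {u₁, u₂} := by
  obtain ⟨hpv, hpa, hpl, hP⟩ := two_far hG hm ha h1 h2 h12 hp
  have hc := partner hG hm ha h1 h2 h12 hp
  have heq : ∀ u, u ∈ ({u₁, u₂} : Finset V) →
      ln G v p ∩ (nb u₁ ∩ nb u₂) = nb u ∩ ln G v p := by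
    intro u hu
    refine eq_of_subset_of_card_le ?_ (by rw [hc]; exact le_two hG hpv hpa u)
    intro w hw
    simp only [mem_inter, mem_insert, mem_singleton] at hw hu ⊢
    rcases hu with rfl | rfl
    exacts [⟨hw.2.1, hw.1⟩, ⟨hw.2.2, hw.1⟩]
  by_cases hzT : z ∈ nb u₁ ∩ nb u₂
  · exact .inl (two_far hG hm ha h1 h2 h12 hzT).2.2.2
  right
  obtain ⟨w, hw, hadj⟩ := skew_congr hG hm ha hpv hpa hz ⟨u₁, h1, by
    simp only [mem_inter, mem_nb] at hp; exact hp.1.symm⟩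
  refine eq_of_subset_of_card_le ?_ ?_
  · intro u hu
    simp only [mem_inter, mem_nb] at hu
    refine mem_sdiff.mpr ⟨hu.2, fun h => hzT ?_⟩
    have : z ∈ nb u ∩ ln G v p := by simp [hu.1.symm, hz]
    rw [← heq u h] at this
    exact (mem_inter.mp this).2
  · rw [adj_two hG hm ha (far_of_mem hpv hpa hz).2 hw hadj, card_sdiff_of_subset (by
      simp [insert_subset_iff, h1, h2]), card_ln hG hm ha, card_pair h12]

omit hG in
/-- The fifteen lines. -/
def lines (G : SimpleGraph V) [DecidableRel G.Adj] (v : V) : Finset (Finset V) :=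
  (univ.filter fun m => m ≠ v ∧ ¬ G.Adj v m).image (ln G v)

omit hG in
/-- Skewness of lines. -/
def lineGraph (G : SimpleGraph V) [DecidableRel G.Adj] (v : V) :
    SimpleGraph {l : Finset V // l ∈ lines G v} :=
  SimpleGraph.fromRel fun l l' => ∃ a ∈ l.1, ∃ b ∈ l'.1, G.Adj a b

omit hG in
theorem mem_lines {l : Finset V} :
    l ∈ lines G v ↔ ∃ m, (m ≠ v ∧ ¬ G.Adj v m) ∧ ln G v m = l := by
  simp [lines]

theorem line_adj {z m : V} (hzv : z ≠ v) (hz : ¬ G.Adj v z) (hm : m ≠ v) (ha : ¬ G.Adj v m)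
    (hl : ln G v z ∈ lines G v) (hl' : ln G v m ∈ lines G v) :
    (lineGraph G v).Adj ⟨_, hl⟩ ⟨_, hl'⟩ ↔ ∃ u ∈ ln G v m, G.Adj z u := by
  simp only [lineGraph, SimpleGraph.fromRel_adj, ne_eq, Subtype.ext_iff]
  constructor
  · rintro ⟨-, ⟨a, ha', b, hb, hab⟩ | ⟨b, hb, a, ha', hab⟩⟩
    · obtain ⟨av, aa⟩ := far_of_mem hzv hz ha'
      exact skew_congr hG hm ha av aa (by rw [ln_eq hG hzv hz ha']; exact self_mem) ⟨b, hb, hab⟩
    · obtain ⟨av, aa⟩ := far_of_mem hzv hz ha'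
      exact skew_congr hG hm ha av aa (by rw [ln_eq hG hzv hz ha']; exact self_mem)
        ⟨b, hb, hab.symm⟩
  · rintro ⟨u, hu, h⟩
    refine ⟨fun e => ?_, .inl ⟨z, self_mem, u, hu, h⟩⟩
    have : z ∈ ln G v m := e ▸ self_mem
    exact nadj_ln hG hm ha this hu h

theorem far_card : (univ.filter fun m => m ≠ v ∧ ¬ G.Adj v m).card = 60 := by
  have h : (univ.filter fun m => m ≠ v ∧ ¬ G.Adj v m) = (insert v (nb v))ᶜ := by ext m; simp
  rw [h, card_compl, hG.card, card_insert_of_notMem (by simp), card_nb hG]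

theorem fiber_eq {l : Finset V} (hl : l ∈ lines G v) :
    (univ.filter fun m => m ≠ v ∧ ¬ G.Adj v m).filter (fun m => ln G v m = l) = l := by
  obtain ⟨m, ⟨hm, ha⟩, rfl⟩ := mem_lines.mp hl
  ext u
  simp only [mem_filter, mem_univ, true_and]
  exact ⟨fun h => h.2 ▸ self_mem, fun h => ⟨far_of_mem hm ha h, ln_eq hG hm ha h⟩⟩

theorem card_lines : (lines G v).card = 15 := by
  have h := card_eq_sum_card_image (ln G v) (univ.filter fun m => m ≠ v ∧ ¬ G.Adj v m)
  rw [far_card hG, ← lines, sum_congr rfl fun l hl => show _ = 4 by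
    rw [fiber_eq hG hl]
    obtain ⟨m, ⟨hm, ha⟩, rfl⟩ := mem_lines.mp hl
    exact card_ln hG hm ha, sum_const, smul_eq_mul] at h
  omega

theorem isQuad [DecidableRel (lineGraph G v).Adj] : IsQuad (lineGraph G v) where
  card := by rw [Fintype.card_coe, card_lines hG]
  deg := by
    rintro ⟨l, hl⟩
    obtain ⟨m, ⟨hm, ha⟩, rfl⟩ := mem_lines.mp hl
    set A := univ.filter (fun w => (w ≠ v ∧ ¬ G.Adj v w) ∧ G.Adj m w) with hA
    have hAc : A.card = 12 := by
      have h := card_sdiff_add_card_inter (nb m) (nb v)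
      rw [card_nb hG, inter_comm, common_eq hG hm.symm ha] at h
      have e : A = nb m \ nb v := by
        ext w
        simp only [hA, mem_filter, mem_univ, true_and, mem_sdiff, mem_nb]
        exact ⟨fun h => ⟨h.2, h.1.2⟩, fun h => ⟨⟨fun e => ha (e ▸ h.1).symm, h.2⟩, h.1⟩⟩
      rw [e]; omega
    have hfib : ∀ l' : {l : Finset V // l ∈ lines G v},
        (A.filter fun w => ln G v w = l'.1).card =
          if (lineGraph G v).Adj ⟨_, hl⟩ l' then 2 else 0 := by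
      rintro ⟨l', hl'⟩
      obtain ⟨n, ⟨hn, hna⟩, rfl⟩ := mem_lines.mp hl'
      have e : A.filter (fun w => ln G v w = ln G v n) = nb m ∩ ln G v n := by
        ext w
        simp only [hA, mem_filter, mem_univ, true_and, mem_inter, mem_nb]
        exact ⟨fun h => ⟨h.1.2, h.2 ▸ self_mem⟩,
          fun h => ⟨⟨far_of_mem hn hna h.2, h.1⟩, ln_eq hG hn hna h.2⟩⟩
      rw [e]
      split_ifs with h
      · obtain ⟨u, hu, hadj⟩ := (line_adj hG hm ha hn hna hl hl').mp h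
        exact adj_two hG hn hna ha hu hadj
      · rw [card_eq_zero, eq_empty_iff_forall_notMem]
        intro u hu
        simp only [mem_inter, mem_nb] at hu
        exact h ((line_adj hG hm ha hn hna hl hl').mpr ⟨u, hu.2, hu.1⟩)
    have hsum : ∑ l' : {l : Finset V // l ∈ lines G v}, (A.filter fun w => ln G v w = l'.1).card =
        12 := by
      rw [← hAc, sum_coe_sort (lines G v) (fun l' => (A.filter fun w => ln G v w = l').card)]
      exact (card_eq_sum_card_fiberwise fun w hw => by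
        simp only [hA, mem_coe, mem_filter] at hw
        exact mem_lines.mpr ⟨w, hw.2.1, rfl⟩).symm
    rw [sum_congr rfl fun l' _ => hfib l', sum_ite, sum_const_zero, sum_const, add_zero,
      smul_eq_mul] at hsum
    rw [SimpleGraph.neighborFinset_eq_filter]
    omega
  third := by
    rintro ⟨l, hl⟩ ⟨l', hl'⟩ hR
    obtain ⟨m, ⟨hm, ha⟩, rfl⟩ := mem_lines.mp hl
    obtain ⟨p, ⟨hpv, hpa⟩, rfl⟩ := mem_lines.mp hl'
    obtain ⟨u, hu, hpu⟩ := (line_adj hG hpv hpa hm ha hl' hl).mp hR.symm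
    obtain ⟨u₁, u₂, h12, hPe⟩ := card_eq_two.mp (adj_two hG hm ha hpa hu hpu)
    have h1 := hPe.ge (mem_insert_self u₁ {u₂})
    have h2 := hPe.ge (mem_insert_of_mem (mem_singleton_self u₂))
    simp only [mem_inter, mem_nb] at h1 h2
    have hp : p ∈ nb u₁ ∩ nb u₂ := by simp [h1.1.symm, h2.1.symm]
    have hc := partner hG hm ha h1.2 h2.2 h12 hp
    obtain ⟨q, hqT, hql⟩ : ∃ q ∈ nb u₁ ∩ nb u₂, q ∉ ln G v p := by
      by_contra! h
      have := card_le_card (show nb u₁ ∩ nb u₂ ⊆ ln G v p ∩ (nb u₁ ∩ nb u₂) from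
        fun w hw => mem_inter.mpr ⟨h w hw, hw⟩)
      rw [hc, common_eq hG h12 (nadj_ln hG hm ha h1.2 h2.2)] at this
      omega
    obtain ⟨hqv, hqa, -, hQ⟩ := two_far hG hm ha h1.2 h2.2 h12 hqT
    have hl'' : ln G v q ∈ lines G v := mem_lines.mpr ⟨q, ⟨hqv, hqa⟩, rfl⟩
    have hqp : ∃ w ∈ ln G v p, G.Adj q w := by
      by_contra! hmeet
      have hrow := meet_row hG hpv hpa hqv hqa hql hmeet
      have hsum := pair_sum hG hm ha h1.2 h2.2 h12 hqT
      rw [← sum_sdiff (inter_subset_right : ln G v p ∩ (nb u₁ ∩ nb u₂) ⊆ _),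
        sum_congr rfl (s₂ := ln G v p ∩ (nb u₁ ∩ nb u₂)) (fun w hw => hrow w (mem_inter.mp hw).1),
        sum_const, hc] at hsum
      have hc2 := partner hG hm ha h1.2 h2.2 h12 hqT
      have hd : (nb u₁ ∩ nb u₂) \ (ln G v p ∩ (nb u₁ ∩ nb u₂)) =
          ln G v q ∩ (nb u₁ ∩ nb u₂) := by
        refine (eq_of_subset_of_card_le ?_ ?_).symm
        · intro w hw
          obtain ⟨hw1, hw2⟩ := mem_inter.mp hw
          refine mem_sdiff.mpr ⟨hw2, fun h => hql ?_⟩
          have := ln_eq hG hpv hpa (mem_inter.mp h).1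
          rw [ln_eq hG hqv hqa hw1] at this
          exact this ▸ self_mem
        · rw [hc2, card_sdiff_of_subset inter_subset_right, hc,
            common_eq hG h12 (nadj_ln hG hm ha h1.2 h2.2)]
      obtain ⟨q', hq'⟩ := card_eq_one.mp (show ((ln G v q ∩ (nb u₁ ∩ nb u₂)).erase q).card = 1 by
        rw [card_erase_of_mem (mem_inter.mpr ⟨self_mem, hqT⟩), hc2])
      have hq'm := hq'.ge (mem_singleton_self q')
      simp only [mem_erase, mem_inter] at hq'm
      rw [hd, ← add_sum_erase _ _ (mem_inter.mpr ⟨self_mem, hqT⟩), hq', sum_singleton,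
        show nb q ∩ (nb v ∩ nb q) = nb v ∩ nb q by ext; simp, common_eq hG hqv.symm hqa] at hsum
      have h0 : (nb q' ∩ (nb v ∩ nb q)).card = 0 := by
        rw [card_eq_zero, eq_empty_iff_forall_notMem]
        intro x hx
        simp only [mem_inter, mem_nb] at hx
        exact (tri_mem hG hqv hqa self_mem hq'm.2.1 (Ne.symm hq'm.1)).none x hx.2.1.symm
          hx.2.2.symm hx.1.symm
      rw [h0] at hsum
      simp at hsum
    rw [card_eq_one]
    refine ⟨⟨_, hl''⟩, ?_⟩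
    ext ⟨l₃, hl₃⟩
    obtain ⟨r, ⟨hrv, hra⟩, rfl⟩ := mem_lines.mp hl₃
    simp only [mem_inter, SimpleGraph.mem_neighborFinset, mem_singleton, Subtype.mk.injEq]
    simp only [mem_inter, mem_nb] at hqT
    rw [(lineGraph G v).adj_comm, (lineGraph G v).adj_comm (⟨_, hl'⟩ : {l // l ∈ lines G v}),
      line_adj hG hrv hra hm ha hl₃ hl, line_adj hG hrv hra hpv hpa hl₃ hl']
    constructor
    · rintro ⟨hrm, hrp⟩
      -- a member seeing the same pair as `p`
      obtain ⟨w, hw, hrw⟩ := hrm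
      have hR2 := adj_two hG hm ha hra hw hrw
      suffices hsame : ∃ r' ∈ ln G v r, r' ∈ nb u₁ ∩ nb u₂ by
        obtain ⟨r', hr'l, hr'⟩ := hsame
        obtain ⟨r'v, r'a, -, -⟩ := two_far hG hm ha h1.2 h2.2 h12 hr'
        rw [← ln_eq hG hrv hra hr'l]
        by_cases hr'p : r' ∈ ln G v p
        · exfalso
          obtain ⟨z, hz, hrz⟩ := hrp
          have e : ln G v r = ln G v p := (ln_eq hG hrv hra hr'l).symm.trans (ln_eq hG hpv hpa hr'p)
          exact nadj_ln hG hrv hra self_mem (e ▸ hz) hrz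
        · by_contra hne
          have hd1 : Disjoint (ln G v q ∩ (nb u₁ ∩ nb u₂)) (ln G v p ∩ (nb u₁ ∩ nb u₂)) :=
            disjoint_left.mpr fun x hx hx' => hql (by
              have := (ln_eq hG hqv hqa (mem_inter.mp hx).1).symm.trans
                (ln_eq hG hpv hpa (mem_inter.mp hx').1)
              exact this ▸ self_mem)
          have hqT' : q ∈ nb u₁ ∩ nb u₂ := by simp [hqT.1, hqT.2]
          have hu' : ln G v q ∩ (nb u₁ ∩ nb u₂) ∪ ln G v p ∩ (nb u₁ ∩ nb u₂) = nb u₁ ∩ nb u₂ :=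
            eq_of_subset_of_card_le (union_subset inter_subset_right inter_subset_right) (by
              rw [card_union_of_disjoint hd1, hc, partner hG hm ha h1.2 h2.2 h12 hqT',
                common_eq hG h12 (nadj_ln hG hm ha h1.2 h2.2)])
          have : r' ∈ ln G v q ∩ (nb u₁ ∩ nb u₂) ∪ ln G v p ∩ (nb u₁ ∩ nb u₂) := hu'.symm ▸ hr'
          rcases mem_union.mp this with h | h
          · exact hne (ln_eq hG hqv hqa (mem_inter.mp h).1)
          · exact hr'p (mem_inter.mp h).1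
      by_cases hr1 : u₁ ∈ nb r ∨ u₂ ∈ nb r
      · by_cases hr3 : nb r ∩ ln G v m ⊆ {u₁, u₂}
        · have e := eq_of_subset_of_card_le hr3 (by rw [hR2, card_pair h12])
          have m1 := e.ge (mem_insert_self u₁ {u₂})
          have m2 := e.ge (mem_insert_of_mem (mem_singleton_self u₂))
          simp only [mem_inter, mem_nb] at m1 m2
          exact ⟨r, self_mem, by simp [m1.1.symm, m2.1.symm]⟩
        · exfalso
          obtain ⟨x, hx, hxn⟩ := not_subset.mp hr3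
          obtain ⟨z, hz, hrz⟩ := hrp
          simp only [mem_inter, mem_nb] at hx hr1
          rcases dichotomy hG hm ha h1.2 h2.2 h12 hp hz with e | e
          · have m1 := e.ge (mem_insert_self u₁ {u₂})
            have m2 := e.ge (mem_insert_of_mem (mem_singleton_self u₂))
            simp only [mem_inter, mem_nb] at m1 m2
            rcases hr1 with h | h
            exacts [tri_free hG hrz h m1.1, tri_free hG hrz h m2.1]
          · have m := e.ge (mem_sdiff.mpr ⟨hx.2, hxn⟩)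
            simp only [mem_inter, mem_nb] at m
            exact tri_free hG hrz hx.1 m.1
      · -- the opposite pair: pass to another member of the line of `r`
        simp only [mem_nb, not_or] at hr1
        have hsk : ∃ z ∈ ln G v r, G.Adj u₁ z := by
          obtain ⟨a, b, hab, hr2⟩ := card_eq_two.mp hR2
          have ma := hr2.ge (mem_insert_self a {b})
          simp only [mem_inter, mem_nb] at ma
          obtain ⟨av, aa⟩ := far_of_mem hm ha ma.2
          exact skew_congr hG hrv hra av aa (by rw [ln_eq hG hm ha ma.2]; exact h1.2)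
            ⟨r, self_mem, ma.1.symm⟩
        obtain ⟨z, hz, hu1z⟩ := hsk
        obtain ⟨a, b, hab, hr2⟩ := card_eq_two.mp hR2
        have ma := hr2.ge (mem_insert_self a {b})
        have mb := hr2.ge (mem_insert_of_mem (mem_singleton_self b))
        simp only [mem_inter, mem_nb] at ma mb
        have hra' : r ∈ nb a ∩ nb b := by simp [ma.1.symm, mb.1.symm]
        have hab' : ({a, b} : Finset V) = ln G v m \ {u₁, u₂} := by
          refine eq_of_subset_of_card_le ?_ ?_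
          · rw [← hr2]
            intro x hx
            simp only [mem_inter, mem_nb, mem_sdiff, mem_insert, mem_singleton, not_or] at hx ⊢
            exact ⟨hx.2, fun e => hr1.1 (e ▸ hx.1), fun e => hr1.2 (e ▸ hx.1)⟩
          · rw [card_pair hab, card_sdiff_of_subset (by simp [insert_subset_iff, h1.2, h2.2]),
              card_ln hG hm ha, card_pair h12]
        refine ⟨z, hz, ?_⟩
        rcases dichotomy hG hm ha ma.2 mb.2 hab hra' hz with e | e
        · exfalso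
          have : u₁ ∈ nb z ∩ ln G v m := by simp [hu1z.symm, h1.2]
          rw [e, hab'] at this
          simp at this
        · rw [hab', Finset.sdiff_sdiff_eq_self (by simp [insert_subset_iff, h1.2, h2.2])] at e
          have m2 := e.ge (mem_insert_of_mem (mem_singleton_self u₂))
          simp only [mem_inter, mem_nb] at m2
          simp [hu1z, m2.1.symm]
    · intro e
      have hr : r ∈ ln G v q := e ▸ self_mem
      exact ⟨skew_congr hG hm ha hqv hqa hr ⟨u₁, h1.2, hqT.1.symm⟩,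
        skew_congr hG hpv hpa hqv hqa hr hqp⟩

end Cfsg.Agent.Steiner.SRG77
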