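import Cfsg.Prelude.Def_Sporadic_a
import Cfsg.Agent.Lib.Steiner.Models22
import Cfsg.Agent.Lib.Steiner.SRG77.Cocliques

/-!
# A strongly regular graph (77, 16, 0, 4) is the block graph of an S(3,6,22)
-/

set_option autoImplicit false

namespace Cfsg.Agent.Steiner.SRG77

open Finset

/-- An isomorphism of set systems gives one of block graphs. -/
theorem blockGraph_iso {α β : Type*} [DecidableEq β] {B : Set (Finset α)}
    {B' : Set (Finset β)} (h : Cfsg.SetSystemIso B B') :
    Nonempty (Cfsg.blockGraph B ≃g Cfsg.blockGraph B') := by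
  obtain ⟨e, rfl⟩ := h
  let f : B ≃ ↥((fun b => b.image e) '' B) :=
    Equiv.Set.image _ B (Finset.image_injective e.injective)
  refine ⟨⟨f, ?_⟩⟩
  intro b c
  simp [f, Cfsg.blockGraph, SimpleGraph.fromRel_adj, Finset.disjoint_image e.injective,
    Subtype.ext_iff, (Finset.image_injective e.injective).eq_iff]

variable {V : Type*} [Fintype V] [DecidableEq V] {G : SimpleGraph V} [DecidableRel G.Adj]

/-- The points. -/
abbrev Pt (G : SimpleGraph V) [DecidableRel G.Adj] : Type _ := {C : Finset V // C ∈ cocliques G}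

/-- The block of a vertex. -/
def blk (G : SimpleGraph V) [DecidableRel G.Adj] (u : V) : Finset (Pt G) :=
  univ.filter fun C => u ∈ C.1

theorem mem_blk {u : V} {C : Pt G} : C ∈ blk G u ↔ u ∈ C.1 := by simp [blk]

variable (hG : G.IsSRGWith 77 16 0 4)
include hG

omit hG in
theorem card_sub (p : Finset V → Prop) [DecidablePred p] :
    (univ.filter fun C : Pt G => p C.1).card = ((cocliques G).filter p).card := by
  rw [← card_map (Function.Embedding.subtype _)]
  congr 1
  ext C
  simp [and_comm]

theorem blk_card (u : V) : (blk G u).card = 6 := by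
  classical
  rw [blk, card_sub fun C => u ∈ C, (card_thru (v := u) hG).1]

theorem blk_meet {u w : V} (h : u ≠ w) :
    (blk G u ∩ blk G w).card = if G.Adj u w then 0 else 2 := by
  classical
  rw [blk, blk, ← filter_and, card_sub fun C => u ∈ C ∧ w ∈ C]
  split_ifs with ha
  · rw [card_eq_zero, filter_eq_empty_iff]
    intro C hC hmem
    exact (mem_cocliques.mp hC).2 u hmem.1 w hmem.2 ha
  · exact (card_thru (v := u) hG).2 w h.symm ha

theorem blk_injective : Function.Injective (blk G) := by
  intro u w h
  by_contra hne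
  have h1 := blk_meet hG hne
  rw [h, inter_self, blk_card hG] at h1
  split_ifs at h1
  all_goals omega

theorem card_pt : Fintype.card (Pt G) = 22 := by
  have h : ∑ C : Pt G, C.1.card = ∑ u : V, (blk G u).card := by
    have e : ∀ C : Pt G, C.1.card = ∑ u : V, if u ∈ C.1 then 1 else 0 := fun C => by
      rw [← card_filter, filter_univ_mem]
    rw [sum_congr rfl fun C _ => e C, sum_comm]
    exact sum_congr rfl fun u _ => (card_filter _ _).symm
  rw [sum_congr rfl (fun C _ => (mem_cocliques.mp C.2).1), sum_congr rfl (fun u _ => blk_card hG u),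
    sum_const, sum_const, card_univ, card_univ, hG.card, smul_eq_mul, smul_eq_mul] at h
  omega

theorem steiner : Cfsg.IsSteinerSystem 3 6 (Set.range (blk G)) := by
  refine ⟨?_, fun s hs => ?_⟩
  · rintro b ⟨m, rfl⟩; exact blk_card hG m
  · have hdisj : ((univ : Finset V) : Set _).PairwiseDisjoint
        fun m => (blk G m).powersetCard 3 := by
      intro m _ m' _ h
      refine disjoint_left.mpr fun t ht ht' => ?_
      rw [mem_powersetCard] at ht ht'
      have h1 := card_le_card (subset_inter ht.1 ht'.1)
      rw [blk_meet hG h, ht.2] at h1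
      split_ifs at h1 <;> omega
    have hall : univ.biUnion (fun m => (blk G m).powersetCard 3) =
        (univ : Finset (Pt G)).powersetCard 3 := by
      refine eq_of_subset_of_card_le (fun t ht => ?_) ?_
      · obtain ⟨m, -, ht⟩ := mem_biUnion.mp ht
        exact mem_powersetCard.mpr ⟨subset_univ _, (mem_powersetCard.mp ht).2⟩
      · rw [card_biUnion hdisj, card_powersetCard, card_univ, card_pt hG,
          sum_congr rfl (fun m _ => show ((blk G m).powersetCard 3).card = 20 by
            rw [card_powersetCard, blk_card hG]; rfl), sum_const, card_univ, hG.card]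
        decide
    have hs' : s ∈ univ.biUnion (fun m => (blk G m).powersetCard 3) := by
      rw [hall]; exact mem_powersetCard.mpr ⟨subset_univ _, hs⟩
    obtain ⟨m, -, hm⟩ := mem_biUnion.mp hs'
    refine ⟨blk G m, ⟨⟨m, rfl⟩, (mem_powersetCard.mp hm).1⟩, ?_⟩
    rintro b ⟨⟨m', rfl⟩, hb⟩
    by_contra hne
    exact disjoint_left.mp (hdisj (mem_univ m') (mem_univ m) (fun e => hne (e ▸ rfl)))
      (mem_powersetCard.mpr ⟨hb, hs⟩) hm

theorem iso_blockGraph : Nonempty (G ≃g Cfsg.blockGraph (Set.range (blk G))) := by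
  refine ⟨⟨Equiv.ofInjective _ (blk_injective hG), ?_⟩⟩
  intro u w
  rcases eq_or_ne u w with rfl | h
  · simp
  have hd : ∀ x y, x ≠ y → (Disjoint (blk G x) (blk G y) ↔ G.Adj x y) := fun x y hxy => by
    rw [disjoint_iff_inter_eq_empty, ← card_eq_zero, blk_meet hG hxy]
    split_ifs with h <;> simp [h]
  simp [Cfsg.blockGraph, SimpleGraph.fromRel_adj, (blk_injective hG).ne h, hd u w h, hd w u h.symm,
    G.adj_comm w u, Subtype.ext_iff]

/-- Uniqueness. -/
theorem srg77_iso {W : Type*} [Fintype W] [DecidableEq W] {H : SimpleGraph W}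
    [DecidableRel H.Adj] (hH : H.IsSRGWith 77 16 0 4) : Nonempty (G ≃g H) := by
  obtain ⟨f⟩ := iso_blockGraph hG
  obtain ⟨g⟩ := iso_blockGraph hH
  obtain ⟨i⟩ := blockGraph_iso
    (setSystemIso_of_normalForm normalForm22 (card_pt hG) (card_pt hH) (steiner hG) (steiner hH))
  exact ⟨(f.trans i).trans g.symm⟩

end Cfsg.Agent.Steiner.SRG77
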